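import Cfsg.Agent.Block.Count
import Cfsg.Agent.CharDeep.Extend

/-!
Alperin–Dade: extensions of principal block characters of a normal subgroup `N` to `N C_G(S)`,
`S` a Sylow `p`-subgroup of `N`.
-/

set_option autoImplicit false
set_option linter.unusedSectionVars false

namespace Cfsg.Agent.Dade

open MonoidAlgebra Transfer Block BMod Cfsg.Agent.Char CharDeep Module
open scoped ComplexConjugate Classical

section Gr
variable {G : Type*} [Group G] [Fintype G] {N S : Subgroup G} [hN : N.Normal]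
  {σ τ : G ⧸ N} {x y z : ℂ[G]} {c d g : G} {χ : G → ℂ}

/-- supported on one coset of `N` -/
def Gr (σ : G ⧸ N) (x : ℂ[G]) : Prop := ∀ g : G, (g : G ⧸ N) ≠ σ → x.coeff g = 0

theorem Gr.mul (hx : Gr σ x) (hy : Gr τ y) : Gr (σ * τ) (x * y) := by
  intro g hg
  rw [coeff_mul_sum]
  refine Finset.sum_eq_zero fun h _ => ?_
  by_cases h1 : (h : G ⧸ N) = σ
  · rw [hy _ ?_, mul_zero]
    intro h2
    apply hg
    rw [← h1, ← h2, ← QuotientGroup.mk_mul, mul_inv_cancel_left]
  · rw [hx h h1, zero_mul]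

theorem Gr.supp (hx : Gr σ x) (h : σ = 1) : x ∈ supp ℂ N := fun g hg =>
  hx g fun h' => hg ((QuotientGroup.eq_one_iff g).1 (h'.trans h))

theorem gr_single (g : G) (a : ℂ) : Gr (g : G ⧸ N) (single g a) := fun h hh => by
  rw [coeff_single, Finsupp.single_apply, if_neg]
  rintro rfl
  exact hh rfl

theorem Gr.smul (hx : Gr σ x) (a : ℂ) : Gr σ (a • x) := fun g hg => by
  simp [hx g hg]

theorem Gr.pow (hx : Gr σ x) (n : ℕ) : Gr (σ ^ n) (x ^ n) := by
  induction n with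
  | zero => simpa [one_def] using gr_single (N := N) 1 1
  | succ n ih => rw [pow_succ, pow_succ]; exact ih.mul hx

theorem gr_trunc (σ : G ⧸ N) (x : ℂ[G]) : Gr σ (trunc {g : G | (g : G ⧸ N) = σ} x) :=
  fun _ hg => coeff_trunc_of_notMem _ hg

theorem trunc_mem_fix (σ : G ⧸ N) (hx : x ∈ fix ℂ N) :
    trunc {g : G | (g : G ⧸ N) = σ} x ∈ fix ℂ N := by
  rw [mem_fix_iff] at hx ⊢
  intro k hk h
  have : ((k * h * k⁻¹ : G) : G ⧸ N) = h := by
    simp [(QuotientGroup.eq_one_iff k).2 hk]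
  by_cases h1 : (h : G ⧸ N) = σ
  · rw [coeff_trunc_of_mem _ (by simpa [this] using h1), coeff_trunc_of_mem _ (by exact h1),
      hx k hk]
  · rw [coeff_trunc_of_notMem _ (by simpa [this] using h1), 
      coeff_trunc_of_notMem _ (by exact h1)]

theorem sum_trunc (x : ℂ[G]) : ∑ σ : G ⧸ N, trunc {g : G | (g : G ⧸ N) = σ} x = x := by
  ext g
  rw [coeff_sum, Finsupp.finsetSum_apply, Finset.sum_eq_single (g : G ⧸ N)
    (fun b _ hb => coeff_trunc_of_notMem _ (by exact hb.symm)) (by simp),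
    coeff_trunc_of_mem _ (by exact rfl)]

theorem Gr.ev_mul (hx : Gr σ x) {f : G → ℂ} {a : ℂ} (hf : ∀ g : G, (g : G ⧸ N) = σ → f g = a) :
    ev (fun g => f g * χ g) x = a * ev χ x := by
  rw [ev_eq_sum, ev_eq_sum, Finset.mul_sum]
  refine Finset.sum_congr rfl fun g _ => ?_
  by_cases h : (g : G ⧸ N) = σ
  · rw [hf g h]; ring
  · rw [hx g h]; ring

variable (N) in
/-- normalised `N`-class sum -/
noncomputable def nc (c : G) : ℂ[G] := (Nat.card N : ℂ)⁻¹ • ∑ n : N, single (n * c * n⁻¹ : G) 1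

theorem gr_nc (c : G) : Gr (c : G ⧸ N) (nc N c) := by
  refine Gr.smul (fun g hg => ?_) _
  rw [coeff_sum, Finsupp.finsetSum_apply]
  refine Finset.sum_eq_zero fun n _ => gr_single (N := N) _ _ g ?_
  simpa [(QuotientGroup.eq_one_iff (n : G)).2 n.2] using hg

theorem nc_mem_fix (c : G) : nc N c ∈ fix ℂ N := by
  intro k hk
  rw [nc, map_smul, map_sum]
  congr 1
  refine Fintype.sum_equiv (Equiv.mulLeft ⟨k, hk⟩) _ _ fun n => ?_
  rw [cj_single]
  simp [mul_assoc]

theorem ev_nc (hχ : IsClassFunction G χ) (c : G) : ev χ (nc N c) = χ c := by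
  rw [nc, map_smul, map_sum]
  simp only [ev_single, one_mul, ← InvMemClass.coe_inv]
  simp only [InvMemClass.coe_inv, hχ c, Finset.sum_const, Finset.card_univ, smul_eq_mul,
    nsmul_eq_mul, ← Nat.card_eq_fintype_card]
  rw [← mul_assoc, inv_mul_cancel₀ natCard_cast_ne_zero, one_mul]

theorem om_nc (hχ : IsClassFunction G χ) (c : G) : om χ (nc N c) = χ c / χ 1 := by
  rw [om_apply, ev_nc hχ]

/-- augmentation -/
noncomputable abbrev au : ℂ[G] →ₗ[ℂ] ℂ := ev (fun _ : G => (1 : ℂ))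

theorem au_mul (x y : ℂ[G]) : au (x * y) = au x * au y := by
  have := fun a => ev_character (Representation.trivial ℂ G ℂ) a
  have h1 : (Representation.trivial ℂ G ℂ).character = fun _ => 1 := by
    ext g; simp [Representation.character]
  rw [h1] at this
  have h2 : ∀ T : ℂ →ₗ[ℂ] ℂ, LinearMap.trace ℂ ℂ T = T 1 := fun T => by
    have : T = T 1 • LinearMap.id := by ext; simp
    conv_lhs => rw [this]
    simp
  simp only [au, this, h2, map_mul, Module.End.mul_apply]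
  generalize (Representation.trivial ℂ G ℂ).asAlgebraHom y 1 = t
  rw [mul_comm, ← smul_eq_mul, ← map_smul, smul_eq_mul, mul_one]

theorem au_nc (c : G) : au (nc N c) = 1 := ev_nc (isClassFunction_const 1) c

theorem au_pow (x : ℂ[G]) (n : ℕ) : au (x ^ n) = au x ^ n := by
  induction n with
  | zero => simp
  | succ n ih => rw [pow_succ, pow_succ, au_mul, ih]

theorem asAlg_inc {V : Type*} [AddCommGroup V] [Module ℂ V] (ρ : Representation ℂ G V)
    (H : Subgroup G) (a : ℂ[H]) :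
    ρ.asAlgebraHom (inc H a) = Representation.asAlgebraHom (ρ.comp H.subtype) a := by
  induction a using MonoidAlgebra.induction_linear with
  | zero => simp
  | add a b ha hb => simp [ha, hb]
  | single h c => simp [inc_single]

/-- Schur's lemma for an extension -/
theorem om_mul_fix (hχ : IsCharacter G χ) (hχN : IsIrrCharacter N fun n : N => χ n)
    (hz : z ∈ fix ℂ N) (a : ℂ[G]) : om χ (z * a) = om χ z * om χ a := by
  obtain ⟨n, ρ, rfl⟩ := hχ
  have hirr : Representation.IsIrreducible (ρ.comp N.subtype : Representation ℂ N _) :=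
    isIrreducible_of_isIrrCharacter _ hχN
  have h1 := eq_smul_of_comm (ρ.comp N.subtype : Representation ℂ N _) (ρ.asAlgebraHom z)
    fun k => by
      have := (commute_of_fix_supp hz (single_mem_supp k.2 (1 : ℂ))).map ρ.asAlgebraHom
      simpa using this.eq
  have h0 : ρ.character 1 ≠ 0 := hχN.apply_one_ne_zero
  rw [om_apply, om_apply, om_apply, ev_character, ev_character, ev_character, map_mul, h1]
  simp only [Representation.char_one] at h0 ⊢
  rw [smul_mul_assoc, map_smul, map_smul, LinearMap.trace_id, ← Module.End.one_eq_id, one_mul,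
    smul_eq_mul, smul_eq_mul]
  field_simp

theorem om_pow_fix (hχ : IsCharacter G χ) (hχN : IsIrrCharacter N fun n : N => χ n)
    (hz : z ∈ fix ℂ N) (n : ℕ) : om χ (z ^ n) = om χ z ^ n := by
  induction n with
  | zero => simpa using om_one (χ := χ) hχN.apply_one_ne_zero
  | succ n ih => rw [pow_succ', pow_succ', om_mul_fix hχ hχN hz, ih]

theorem om_res (χ : G → ℂ) (hz : z ∈ supp ℂ N) :
    om χ z = om (fun n : N => χ n) (resA N z) := by
  rw [om_apply, om_apply, ev_resA, trunc_eq_self hz]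
  rfl

end Gr

section Coc
variable {p : ℕ} [hp : Fact p.Prime] {M : Ideal AlgInt} [PMod p M]

theorem exists_root_red {β : ℂ} (hβ : red M β = 1) {n : ℕ} (hn : n ≠ 0) :
    ∃ γ : ℂ, γ ^ n = β ∧ red M γ = 1 := by
  obtain ⟨γ, hγ⟩ := IsAlgClosed.exists_pow_nat_eq β (Nat.pos_of_ne_zero hn)
  have hβO : β ∈ O M := mem_O_of_red_ne_zero (by simp [hβ])
  have hγO : γ ∈ O M := mem_O_of_isIntegral_O (IsIntegral.of_pow (Nat.pos_of_ne_zero hn)
    (hγ ▸ isIntegral_algebraMap (x := (⟨β, hβO⟩ : O M))))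
  have h1 : red M γ ^ n = 1 := by rw [← red_pow hγO, hγ, hβ]
  obtain ⟨ζ, h2, h3⟩ := exists_root_red_eq hn h1
  have h4 := red_ne_zero_of_pow (M := M) hn h2
  refine ⟨γ / ζ, by rw [div_pow, h2, hγ, div_one], ?_⟩
  rw [red_div hγO h4, ← h3, div_self h4]

theorem exists_coboundary {Q : Type*} [Group Q] [Fintype Q] (hQ : ¬ p ∣ Nat.card Q)
    {α : Q → Q → ℂ} (h1 : ∀ a b, red M (α a b) = 1)
    (h2 : ∀ a b c, α a b * α (a * b) c = α b c * α a (b * c)) :
    ∃ γ : Q → ℂ, (∀ a, red M (γ a) = 1) ∧ ∀ a b, α a b * γ (a * b) = γ a * γ b := by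
  have hO : ∀ {z : ℂ}, red M z = 1 → z ∈ O M := fun h => mem_O_of_red_ne_zero (by simp [h])
  have hβ : ∀ a, red M (∏ c, α a c) = 1 := fun a => by
    rw [red_prod _ fun c _ => hO (h1 a c)]; simp [h1]
  choose γ hγ hγ' using fun a => exists_root_red (hβ a) (Nat.card_pos (α := Q)).ne'
  refine ⟨γ, hγ', fun a b => ?_⟩
  have h0 : γ a * γ b ≠ 0 := ne_zero_of_red_ne_zero (M := M) (by
    rw [red_mul (hO (hγ' a)) (hO (hγ' b))]; simp [hγ'])
  rw [← div_eq_one_iff_eq h0]
  refine eq_one_of_red_eq_one (M := M) hQ ?_ ?_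
  · rw [div_pow, div_eq_one_iff_eq (pow_ne_zero _ h0), mul_pow, mul_pow, hγ, hγ, hγ,
      Nat.card_eq_fintype_card, ← Finset.card_univ, ← Finset.prod_const, ← Finset.prod_mul_distrib,
      mul_comm, ← Equiv.prod_comp (Equiv.mulLeft b) (α a), ← Finset.prod_mul_distrib]
    exact Finset.prod_congr rfl fun c _ => h2 a b c
  · rw [red_div (mul_mem (hO (h1 a b)) (hO (hγ' _))), red_mul (hO (h1 a b)) (hO (hγ' _)),
      red_mul (hO (hγ' a)) (hO (hγ' b))]
    · simp [h1, hγ']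
    · rw [red_mul (hO (hγ' a)) (hO (hγ' b))]; simp [hγ']

end Coc

section Prime
variable {p : ℕ} [hp : Fact p.Prime] {M : Ideal AlgInt} [PMod p M]
variable {G : Type*} [Group G] [Fintype G] {N S : Subgroup G} [hN : N.Normal]
  {σ τ : G ⧸ N} {x y z : ℂ[G]} {c d g : G} {χ ψ : G → ℂ} {θ : IrrCharacter N}

local notation "𝐂" S => Subgroup.centralizer (S : Set _)

variable (p N S) in
structure Sy : Prop where
  le : S ≤ N
  idx : ¬ p ∣ S.relIndex N

theorem Sy.nc_mem (h : Sy p N S) (hc : c ∈ 𝐂 S) : nc N c ∈ OG M G := by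
  rw [nc, sum_eq_sum_quotient (S.subgroupOf N)]
  have h1 : ∀ (q : N ⧸ S.subgroupOf N) (s : S.subgroupOf N),
      ((q.out * s : N) * c * (q.out * s : N)⁻¹ : G) = q.out * c * (q.out : G)⁻¹ := fun q s => by
    have := mem_centralizer_iff'.1 hc _ (Subgroup.mem_subgroupOf.1 s.2)
    conv_rhs => rw [← this]
    simp only [Subgroup.coe_mul, InvMemClass.coe_inv]
    group
  simp only [h1, Finset.sum_const, Finset.card_univ, ← Nat.card_eq_fintype_card,
    ← Finset.smul_sum, ← Nat.cast_smul_eq_nsmul ℂ, smul_smul]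
  refine smul_mem_OG ?_ (sum_mem fun q _ => single_mem_OG _ (one_mem _))
  have h2 := (S.subgroupOf N).card_mul_index
  have h3 : (Nat.card (S.subgroupOf N) : ℂ) ≠ 0 := natCard_cast_ne_zero
  rw [← h2, Nat.cast_mul, mul_inv, mul_right_comm, inv_mul_cancel₀ h3, one_mul]
  exact inv_natCast_mem_O h.idx

theorem red_om_res (hθ : θ ∈ principalBlock M N) (hz : z ∈ fix ℂ N) (hs : z ∈ supp ℂ N)
    (hO : z ∈ OG M G) : red M (om θ (resA N z)) = red M (au z) := by
  rw [← lamS_redA θ hz hO, isPBlock_principalBlock.lamS_eq hθ irrOne_mem_principalBlock,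
    lamS_redA _ hz hO, coe_irrOne, ← om_res (fun _ : G => (1 : ℂ)) hs, om_apply, div_one]

variable (θ χ) in
structure Ext : Prop where
  ch : IsCharacter G χ
  res : ∀ n : N, χ n = θ.1 n

theorem Ext.irr' (h : Ext χ θ) : IsIrrCharacter N fun n : N => χ n := by
  rw [funext h.res]; exact θ.2

theorem Ext.irr (h : Ext χ θ) : IsIrrCharacter G χ := isIrr_of_isIrr_res N h.ch h.irr'

theorem Ext.red_om (h : Ext χ θ) (hθ : θ ∈ principalBlock M N) (hz : z ∈ fix ℂ N)
    (hs : z ∈ supp ℂ N) (hO : z ∈ OG M G) : om χ z ∈ O M ∧ red M (om χ z) = red M (au z) := by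
  rw [om_res χ hs, funext h.res]
  exact ⟨om_resA_mem_O θ hz hO, red_om_res hθ hz hs hO⟩

theorem Ext.mul_hom (h : Ext χ θ) {lam : G →* ℂˣ} (hl : ∀ n ∈ N, lam n = 1) :
    Ext (fun g => lam g * χ g) θ :=
  ⟨(isCharacter_hom lam).mul h.ch, fun n => by rw [hl n n.2, h.res]; simp⟩

theorem Ext.mu_mem (h : Ext χ θ) (hθ : θ ∈ principalBlock M N) (hS : Sy p N S) (hc : c ∈ 𝐂 S) :
    χ c / χ 1 ∈ O M ∧ red M (χ c / χ 1) ^ N.index = 1 := by
  have h1 := h.red_om hθ (pow_mem (nc_mem_fix c) N.index)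
    (((gr_nc c).pow _).supp pow_card_eq_one') (pow_mem (hS.nc_mem hc) _)
  rw [om_pow_fix h.ch h.irr' (nc_mem_fix c), om_nc h.ch.isClassFunction, au_pow, au_nc, one_pow,
    red_one] at h1
  have h2 : χ c / χ 1 ∈ O M := mem_O_of_isIntegral_O
    (IsIntegral.of_pow (Nat.pos_of_ne_zero N.index_ne_zero_of_finite)
      (isIntegral_algebraMap (x := (⟨_, h1.1⟩ : O M))))
  exact ⟨h2, by rw [← red_pow h2, h1.2]⟩

theorem Ext.mu_three (h : Ext χ θ) (hθ : θ ∈ principalBlock M N) (hS : Sy p N S) {e : G}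
    (hc : c ∈ 𝐂 S) (hd : d ∈ 𝐂 S) (he : e ∈ 𝐂 S) (h1 : c * d * e ∈ N) :
    red M (χ c / χ 1) * red M (χ d / χ 1) * red M (χ e / χ 1) = 1 := by
  have h2 := (h.red_om hθ (mul_mem (nc_mem_fix c) (mul_mem (nc_mem_fix d) (nc_mem_fix e)))
    (((gr_nc c).mul ((gr_nc d).mul (gr_nc e))).supp (by
      rw [← mul_assoc]; exact (QuotientGroup.eq_one_iff _).2 h1))
    (mul_mem (hS.nc_mem hc) (mul_mem (hS.nc_mem hd) (hS.nc_mem he)))).2
  have hc' := (h.mu_mem hθ hS hc).1
  have hd' := (h.mu_mem hθ hS hd).1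
  have he' := (h.mu_mem hθ hS he).1
  rw [om_mul_fix h.ch h.irr' (nc_mem_fix c), om_mul_fix h.ch h.irr' (nc_mem_fix d)] at h2
  simp only [om_nc h.ch.isClassFunction, au_mul, au_nc, mul_one, red_one] at h2
  rwa [red_mul hc' (mul_mem hd' he'), red_mul hd' he', ← mul_assoc] at h2

theorem Ext.mu_one (h : Ext χ θ) : red M (χ 1 / χ 1) = 1 := by
  rw [div_self h.irr.apply_one_ne_zero, red_one]

theorem Ext.mu_of_mem (h : Ext χ θ) (hθ : θ ∈ principalBlock M N) (hS : Sy p N S)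
    (hc : c ∈ 𝐂 S) (h1 : c ∈ N) : red M (χ c / χ 1) = 1 := by
  have := h.mu_three hθ hS hc (one_mem _) (one_mem _) (by simpa using h1)
  rwa [h.mu_one, mul_one, mul_one] at this

theorem Ext.mu_mul (h : Ext χ θ) (hθ : θ ∈ principalBlock M N) (hS : Sy p N S)
    (hc : c ∈ 𝐂 S) (hd : d ∈ 𝐂 S) :
    red M (χ (c * d) / χ 1) = red M (χ c / χ 1) * red M (χ d / χ 1) := by
  have h1 := h.mu_three hθ hS hc hd (inv_mem (mul_mem hc hd)) (by simp [one_mem])
  have h2 := h.mu_three hθ hS (mul_mem hc hd) (one_mem _) (inv_mem (mul_mem hc hd))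
    (by simp [one_mem])
  rw [h.mu_one, mul_one] at h2
  exact mul_right_cancel₀ (right_ne_zero_of_mul_eq_one h2) (h2.trans h1.symm)

theorem Ext.mu_eq (h : Ext χ θ) (hθ : θ ∈ principalBlock M N) (hS : Sy p N S)
    (hc : c ∈ 𝐂 S) (hd : d ∈ 𝐂 S) (h1 : (c : G ⧸ N) = d) :
    red M (χ c / χ 1) = red M (χ d / χ 1) := by
  have := h.mu_mul hθ hS hc (mul_mem (inv_mem hc) hd)
  rwa [mul_inv_cancel_left, h.mu_of_mem hθ hS (mul_mem (inv_mem hc) hd) (QuotientGroup.eq.1 h1),
    mul_one, eq_comm] at this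

variable (N S g) in
def Cov : Prop := ∃ c : G, c ∈ (𝐂 S) ∧ (c : G ⧸ N) = g

variable (M S χ) in
def Good : Prop := ∀ c ∈ 𝐂 S, red M (χ c / χ 1) = 1

theorem Good.all (hg : Good M S χ) (h : Ext χ θ) (hθ : θ ∈ principalBlock M N) (hS : Sy p N S)
    (hz : z ∈ fix ℂ N) (hO : z ∈ OG M G)
    (hK : ∀ g, z.coeff g ≠ 0 → Cov N S g) : red M (om χ z) = red M (au z) := by
  have key : ∀ σ : G ⧸ N, om χ (trunc {g : G | (g : G ⧸ N) = σ} z) ∈ O M ∧
      red M (om χ (trunc {g : G | (g : G ⧸ N) = σ} z)) =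
        red M (au (trunc {g : G | (g : G ⧸ N) = σ} z)) := fun σ => by
    by_cases h0 : trunc {g : G | (g : G ⧸ N) = σ} z = 0
    · simp [h0]
    obtain ⟨g, hg'⟩ : ∃ g, (trunc {g : G | (g : G ⧸ N) = σ} z).coeff g ≠ 0 := by
      by_contra! h1
      exact h0 (by ext g; simp [h1])
    rw [coeff_trunc] at hg'
    obtain ⟨h1, h2⟩ : (g : G ⧸ N) = σ ∧ z.coeff g ≠ 0 := by simpa using hg'
    obtain ⟨c, hc, h3⟩ := hK g h2
    have h4 := h.red_om hθ (mul_mem (trunc_mem_fix σ hz) (nc_mem_fix c⁻¹))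
      (((gr_trunc σ z).mul (gr_nc c⁻¹)).supp (by simp [← h1, h3]))
      (mul_mem (trunc_mem_OG _ hO) (hS.nc_mem (inv_mem hc)))
    rw [om_mul_fix h.ch h.irr' (trunc_mem_fix σ hz), om_nc h.ch.isClassFunction, au_mul, au_nc,
      mul_one] at h4
    have h5 := hg _ (inv_mem hc)
    have h6 : red M (χ c⁻¹ / χ 1) ≠ 0 := by simp [h5]
    have h7 := div_mem_O h4.1 h6
    have h8 := red_div h4.1 h6
    rw [mul_div_cancel_right₀ _ (ne_zero_of_red_ne_zero h6)] at h7 h8
    exact ⟨h7, by rw [h8, h4.2, h5, div_one]⟩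
  rw [← sum_trunc (N := N) z, map_sum, map_sum, red_sum _ fun σ _ => (key σ).1,
    red_sum _ fun σ _ => ev_mem_O (fun _ => one_mem _) (trunc_mem_OG _ hO)]
  exact Finset.sum_congr rfl fun σ _ => (key σ).2

theorem au_idem (M : Ideal AlgInt) [M.IsMaximal] : au (idem (principalBlock M G)) = 1 := by
  simpa [om_apply, coe_irrOne] using om_idem_of_mem (irrOne_mem_principalBlock (M := M) (G := G))

theorem Good.mem (hg : Good M S χ) (h : Ext χ θ) (hθ : θ ∈ principalBlock M N) (hS : Sy p N S)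
    (hK : ∀ g : G, ¬ p ∣ orderOf g → Cov N S g) :
    (⟨χ, h.irr⟩ : IrrCharacter G) ∈ principalBlock M G := by
  have h1 := hg.all h hθ hS (center_mem_fix (idem_mem_center (principalBlock M G)) N)
    isPBlock_principalBlock.idem_mem_OG fun g hg => hK g fun h' =>
      hg (blockCoeff_eq_zero_of_dvd isPBlock_principalBlock.isBlockUnion h')
  by_contra h2
  rw [show om χ _ = 0 from om_idem_of_notMem h2, au_idem] at h1
  simp at h1

theorem Good.mem_sub (hg : Good M S χ) (h : Ext χ θ) (hθ : θ ∈ principalBlock M N)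
    (hS : Sy p N S) (hK : ∀ g : G, ¬ p ∣ orderOf g → Cov N S g)
    {J : Subgroup G} (hJ : N ≤ J) {ξ : IrrCharacter J} (hξ : ∀ y : J, ξ.1 y = χ y) :
    ξ ∈ principalBlock M J := by
  have h1 := hg.all h hθ hS (fix_anti hJ (idemS_mem_Zc J (principalBlock M J)).1)
    (idemS_mem_OG isPBlock_principalBlock) fun g hg => hK g fun h' => hg (by
      by_cases hg' : g ∈ J
      · rw [idemS, coeff_inc_of_mem _ hg']
        exact blockCoeff_eq_zero_of_dvd isPBlock_principalBlock.isBlockUnion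
          (by rwa [← Subgroup.orderOf_coe])
      · exact coeff_inc_of_notMem _ hg')
  by_contra h2
  have h3 := om_idem_of_notMem h2
  rw [funext hξ] at h3
  rw [idemS, om_apply, ev_inc, au, ev_inc] at h1
  erw [← om_apply (fun y : J => χ y), h3, au_idem] at h1
  simp at h1

theorem exists_proj (hθ : θ ∈ principalBlock M N) {V : Type*} [AddCommGroup V] [Module ℂ V]
    [FiniteDimensional ℂ V] (ρ : Representation ℂ N V) [ρ.IsIrreducible] (hρ : ρ.character = θ.1)
    {y : G ⧸ N → ℂ[G]} (yG : ∀ σ, Gr σ (y σ)) (yF : ∀ σ, y σ ∈ fix ℂ N) (yO : ∀ σ, y σ ∈ OG M G)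
    (yA : ∀ σ, au (y σ) = 1) : ∃ (T : G → Module.End ℂ V) (α : G ⧸ N → G ⧸ N → ℂ) (s : ℂ)
      (U : G ⧸ N → ℂ), (∀ σ τ, red M (α σ τ) = 1) ∧ red M s = 1 ∧ (∀ σ, red M (U σ) = 1) ∧
      (∀ g h : G, T g * T h = α g h • T (g * h)) ∧ (∀ k : N, T k = s • ρ k) ∧
      ∀ σ, ∑ g, (y σ).coeff g • T g = U σ • 1 := by
  have hne : ∀ {z : ℂ}, red M z = 1 → z ≠ 0 := fun h =>
    ne_zero_of_red_ne_zero (M := M) (by simp [h])
  have hmO : ∀ {z : ℂ}, red M z = 1 → z ∈ O M := fun h => mem_O_of_red_ne_zero (by simp [h])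
  obtain ⟨A, hAd⟩ : ∃ A : ℂ[G] →ₗ[ℂ] Module.End ℂ V, ∀ a, A a = ρ.asAlgebraHom (resA N a) :=
    ⟨ρ.asAlgebraHom.toLinearMap ∘ₗ resA N, fun _ => rfl⟩
  obtain ⟨w, hwd⟩ : ∃ w : ℂ[G] → ℂ, ∀ a, w a = om θ (resA N a) := ⟨_, fun _ => rfl⟩
  have hA : ∀ {a b}, a ∈ supp ℂ N → b ∈ supp ℂ N → A (a * b) = A a * A b := fun ha hb => by
    rw [hAd, hAd, hAd, resA_mul ha hb, map_mul]
  have hZ : ∀ {z}, z ∈ fix ℂ N → A z = w z • 1 := fun {z} hz => by
    have := eq_smul_of_comm ρ (A z) fun k => by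
      simpa [hAd] using congrArg ρ.asAlgebraHom (center_comm (resA_mem_center hz) (single k 1))
    rw [this, hwd, om_apply, ← hρ, ev_character, Representation.char_one, hAd]
    rfl
  have hw : ∀ {z}, z ∈ fix ℂ N → z ∈ supp ℂ N → z ∈ OG M G → au z = 1 → red M (w z) = 1 :=
    fun h1 h2 h3 h4 => by rw [hwd, red_om_res hθ h1 h2 h3, h4, red_one]
  have hT : ∀ g : G, single g 1 * y (g : G ⧸ N)⁻¹ ∈ supp ℂ N := fun g =>
    ((gr_single g 1).mul (yG _)).supp (by simp)
  have sU : ∀ σ, y σ * y σ⁻¹ ∈ supp ℂ N := fun σ => ((yG _).mul (yG _)).supp (by simp)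
  have sW : ∀ σ τ, y τ⁻¹ * y σ⁻¹ * y (σ * τ) ∈ supp ℂ N := fun σ τ =>
    (((yG _).mul (yG _)).mul (yG _)).supp (by group)
  have hU : ∀ σ, red M (w (y σ * y σ⁻¹)) = 1 := fun σ =>
    hw (mul_mem (yF _) (yF _)) (sU σ) (mul_mem (yO _) (yO _)) (by simp [au_mul, yA])
  have hW : ∀ σ τ, red M (w (y τ⁻¹ * y σ⁻¹ * y (σ * τ))) = 1 := fun σ τ =>
    hw (mul_mem (mul_mem (yF _) (yF _)) (yF _)) (sW σ τ)
      (mul_mem (mul_mem (yO _) (yO _)) (yO _)) (by simp [au_mul, yA])
  refine ⟨fun g => A (single g 1 * y (g : G ⧸ N)⁻¹),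
    fun σ τ => w (y τ⁻¹ * y σ⁻¹ * y (σ * τ)) / w (y (σ * τ) * y (σ * τ)⁻¹), w (y 1),
    fun σ => w (y σ * y σ⁻¹), fun σ τ => ?_, hw (yF _) ((yG _).supp rfl) (yO _) (yA _), hU,
    fun g h => ?_, fun k => ?_, fun σ => ?_⟩
  · rw [red_div (hmO (hW _ _)) (by rw [hU]; exact one_ne_zero), hU, hW, div_one]
  · have h1 : A (single g 1 * y (g : G ⧸ N)⁻¹) * A (single h 1 * y (h : G ⧸ N)⁻¹) *
        A (y (g * h) * y (g * h : G ⧸ N)⁻¹) = A (single (g * h) 1 * y (g * h : G)⁻¹) *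
          A (y (h : G ⧸ N)⁻¹ * y (g : G ⧸ N)⁻¹ * y (g * h)) := by
      rw [← hA (hT g) (hT h), ← hA (mul_mem (hT g) (hT h)) (sU _), ← hA (hT _) (sW _ _)]
      congr 1
      rw [mul_assoc (single g 1), (commute_of_fix_supp (yF _) (hT h)).eq, QuotientGroup.mk_mul,
        mul_assoc (single (g * h) 1), (commute_of_fix_supp (yF _) (sW _ _)).eq]
      simp only [← mul_assoc, single_mul_single, mul_one]
    rw [hZ (mul_mem (yF _) (yF _)), hZ (mul_mem (mul_mem (yF _) (yF _)) (yF _)), mul_smul_comm,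
      mul_smul_comm, mul_one, mul_one] at h1
    have h2 := hne (hU (g * h))
    beta_reduce
    rw [div_eq_inv_mul, ← smul_smul, ← h1, smul_smul, inv_mul_cancel₀ h2, one_smul]
  · simp only [(QuotientGroup.eq_one_iff (k : G)).2 k.2, inv_one]
    rw [hA (single_mem_supp k.2 1) ((yG _).supp rfl), hZ (yF 1), mul_smul_comm, mul_one, hAd,
      resA_single, Representation.asAlgebraHom_single_one]
  · rw [← hZ (mul_mem (yF _) (yF _))]
    conv_rhs => rw [eq_sum_single (y σ), Finset.sum_mul, map_sum]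
    refine Finset.sum_congr rfl fun g _ => ?_
    by_cases hg : (g : G ⧸ N) = σ
    · rw [← hg, ← map_smul, ← smul_mul_assoc, smul_single, smul_eq_mul, mul_one]
    · simp [yG _ g hg]

theorem exists_ext (hθ : θ ∈ principalBlock M N) (hS : Sy p N S) (hc : ∀ g : G, Cov N S g)
    (hidx : ¬ p ∣ N.index) : ∃ χ, Ext χ θ ∧ Good M S χ := by
  obtain ⟨n, ρ, hirr, hρ⟩ := θ.2
  have hne : ∀ {z : ℂ}, red M z = 1 → z ≠ 0 := fun h =>
    ne_zero_of_red_ne_zero (M := M) (by simp [h])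
  have hmO : ∀ {z : ℂ}, red M z = 1 → z ∈ O M := fun h => mem_O_of_red_ne_zero (by simp [h])
  choose c hc hc' using fun σ : G ⧸ N => hc σ.out
  simp only [QuotientGroup.out_eq'] at hc'
  have yG : ∀ σ, Gr σ (nc N (c σ)) := fun σ => by simpa [hc'] using gr_nc (N := N) (c σ)
  obtain ⟨T, α, s, U, hα, hs, hU, key, hT, hTU⟩ := exists_proj hθ ρ hρ yG
    (fun σ => nc_mem_fix _) (fun σ => hS.nc_mem (hc σ)) fun σ => au_nc _
  have hT1 : T 1 = s • 1 := by simpa using hT 1
  haveI := nontrivial_of_isIrreducible ρ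
  have hT0 : ∀ g, T g ≠ 0 := fun g h0 => by
    have := key g g⁻¹
    rw [h0, zero_mul, mul_inv_cancel, hT1, smul_smul, eq_comm, smul_eq_zero] at this
    exact this.elim (mul_ne_zero (hne (hα _ _)) (hne hs)) one_ne_zero
  obtain ⟨γ, hγ, hγ'⟩ := exists_coboundary (M := M) hidx hα fun a b c => by
    induction a using QuotientGroup.induction_on with | H a => ?_
    induction b using QuotientGroup.induction_on with | H b => ?_
    induction c using QuotientGroup.induction_on with | H c => ?_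
    have := mul_assoc (T a) (T b) (T c)
    rw [key a b, key b c, smul_mul_assoc, mul_smul_comm, key, key, smul_smul, smul_smul,
      mul_assoc a] at this
    exact smul_left_injective ℂ (hT0 _) this
  have hγ1 : γ 1 = s := by
    have h1 := key 1 1
    have h2 := hγ' 1 1
    rw [mul_one, hT1, smul_mul_assoc, one_mul] at h1
    rw [mul_one, mul_left_inj' (hne (hγ 1))] at h2
    rw [← h2]
    exact (smul_left_injective ℂ (hT1 ▸ hT0 1) h1).symm
  obtain ⟨R, hR⟩ : ∃ R : Representation ℂ G (Fin n → ℂ), ∀ g, R g = (γ g)⁻¹ • T g :=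
    ⟨{ toFun := fun g => (γ g)⁻¹ • T g
       map_one' := by rw [hT1, smul_smul, QuotientGroup.mk_one, hγ1, inv_mul_cancel₀ (hne hs),
        one_smul]
       map_mul' := fun g h => by
        rw [smul_mul_smul_comm, key, smul_smul, QuotientGroup.mk_mul, ← mul_inv, ← hγ']
        congr 1
        have := hne (hα g h)
        have := hne (hγ (g * h))
        field_simp }, fun _ => rfl⟩
  have hE : Ext R.character θ := ⟨⟨n, R, rfl⟩, fun k => by
    rw [← hρ, Representation.character, Representation.character, hR, hT,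
      (QuotientGroup.eq_one_iff (k : G)).2 k.2, hγ1, smul_smul, inv_mul_cancel₀ (hne hs),
      one_smul]⟩
  refine ⟨_, hE, fun d hd => ?_⟩
  rw [hE.mu_eq hθ hS hd (hc d) (hc' _).symm, ← om_nc (N := N) hE.ch.isClassFunction]
  have h1 : R.asAlgebraHom (nc N (c d)) = ((γ d)⁻¹ * U d) • 1 := by
    rw [← smul_smul, ← hTU]
    conv_lhs => rw [eq_sum_single (nc N (c d)), map_sum]
    rw [Finset.smul_sum]
    refine Finset.sum_congr rfl fun g _ => ?_
    by_cases hg : (g : G ⧸ N) = d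
    · rw [Representation.asAlgebraHom_single, hR, smul_comm, hg]
    · simp [yG _ g hg]
  have h2 := hE.irr.apply_one_ne_zero
  rw [om_apply, ev_character, h1, map_smul, LinearMap.trace_one, smul_eq_mul,
    ← Representation.char_one R, mul_div_cancel_right₀ _ h2,
    red_mul (inv_mem_O (by simp [hγ])) (hmO (hU _)), red_inv (by simp [hγ]), hγ, hU]
  simp

theorem Good.eq_of_mem (hg : Good M S χ) (h : Ext χ θ) (hS : Sy p N S) (hc : ∀ g : G, Cov N S g)
    (hidx : ¬ p ∣ N.index) {ξ : IrrCharacter G} (hξ : ξ ∈ principalBlock M G)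
    (ho : LiesOver N ξ θ) : ξ.1 = χ := by
  obtain ⟨β, hβ, h1⟩ := gallagher_surj N h.ch h.irr' ξ.2 (by
    rw [funext h.res]; exact liesOver_iff.1 ho)
  have h0 := hβ.apply_one_ne_zero
  have key : ∀ σ, red M (β σ / β 1) = 1 := fun σ => by
    obtain ⟨c, hc, h2⟩ := hc σ.out
    rw [QuotientGroup.out_eq'] at h2
    have h3 := red_div_of_principal hξ (g := c) fun h3 => by
      have h4 := h3.trans (Subgroup.index_dvd_of_le (le_centralizer_singleton_iff.2 hc))
      rw [← Subgroup.relIndex_mul_index hS.le] at h4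
      exact (hp.out.dvd_mul.1 h4).elim hS.idx hidx
    have h4 := hg c hc
    have h5 : red M (χ c / χ 1) ≠ 0 := by simp [h4]
    have h6 := red_div (mem_O_of_red_ne_zero (z := ξ.1 c / ξ.1 1) (by simp [h3])) h5
    rw [h3, h4, h1, div_one] at h6
    rw [← h6, ← h2]
    congr 1
    have := ne_zero_of_red_ne_zero h5
    have := (div_ne_zero_iff.1 this).1
    have := h.irr.apply_one_ne_zero
    simp only [QuotientGroup.mk_one]
    field_simp
  have h2 : β = fun _ => 1 := by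
    by_contra h2
    have h3 : ∑ σ, β σ / β 1 = 0 := by rw [← Finset.sum_div, hβ.sum_eq_zero h2, zero_div]
    have h4 := congrArg (red M) h3
    rw [red_sum _ fun σ _ => mem_O_of_red_ne_zero (by simp [key])] at h4
    simp only [key, Finset.sum_const, Finset.card_univ, nsmul_eq_mul, mul_one, red_zero,
      ← Nat.card_eq_fintype_card] at h4
    exact hidx ((natCast_F_eq_zero_iff _).1 h4)
  simp [h1, h2]

theorem mem_principal_of_over {M : Ideal AlgInt} [M.IsMaximal] {ξ : IrrCharacter G} (hξ : ξ ∈ principalBlock M G)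
    (ho : LiesOver N ξ θ) : θ ∈ principalBlock M N := by
  have h1 : Covers N (principalBlock M G) (principalBlock M N) :=
    ⟨_, irrOne_mem_principalBlock, _, irrOne_mem_principalBlock, liesOver_iff.2 (by
      have := (irrOne N).2.classInner_self
      exact (this.trans_ne one_ne_zero))⟩
  have h2 := h1.mem_orbN isPBlock_principalBlock isPBlock_principalBlock.isBlockUnion hξ ho
  rwa [isInv_principal.orbN_eq] at h2

theorem Ext.liesOver (h : Ext χ θ) : LiesOver N χ θ := by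
  rw [liesOver_iff, funext h.res, θ.2.classInner_self]; exact one_ne_zero

theorem Ext.exists_twist (h : Ext ψ θ) (hθ : θ ∈ principalBlock M N) (hS : Sy p N S)
    {K : Subgroup G} [hKn : K.Normal] (hK : ∀ k, k ∈ K ↔ Cov N S k) {a : ℕ} (ha : K.index = p ^ a)
    (hfr : ∀ g : G, ∃ m ∈ Subgroup.normalizer (S : Set G), (m : G ⧸ N) = g) :
    ∃ lam : G →* ℂˣ, (∀ n ∈ N, lam n = 1) ∧ Good M S fun g => lam g * ψ g := by
  obtain ⟨v, m, hm, hvm⟩ := Nat.exists_eq_pow_mul_and_not_dvd N.index_ne_zero_of_finite p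
    hp.out.ne_one
  have hm0 : m ≠ 0 := by rintro rfl; simp at hm
  have h1 : ∀ c ∈ 𝐂 S, (red M (ψ c / ψ 1))⁻¹ ^ m = 1 := fun c hc => by
    have := (h.mu_mem hθ hS hc).2
    rw [hvm, ExpChar.pow_prime_pow_mul_eq_one_iff] at this
    rw [inv_pow, this, inv_one]
  choose c hc hc' using fun k : K => (hK k).1 k.2
  choose f hf hf' using fun k : K => exists_root_red_eq hm0 (h1 _ (hc k))
  have h2 : ∀ (k : K) (d : G), d ∈ (𝐂 S) → (d : G ⧸ N) = k → red M (f k) = (red M (ψ d / ψ 1))⁻¹ :=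
    fun k d hd hd' => by rw [hf', h.mu_eq hθ hS (hc k) hd ((hc' k).trans hd'.symm)]
  have hO : ∀ k, f k ∈ O M := fun k => mem_O_of_pow_eq_one hm0 (hf k)
  have h3 : ∀ k : K, (k : G) ∈ N → f k = 1 := fun k hk => eq_one_of_red_eq_one (M := M) hm (hf k)
    (by rw [h2 k 1 (one_mem _) (by simpa using ((QuotientGroup.eq_one_iff _).2 hk).symm),
      h.mu_one, inv_one])
  let l : K →* ℂ :=
    { toFun := f
      map_one' := h3 1 (one_mem _)
      map_mul' := fun k k' => eq_of_red_eq_of_pow (M := M) hm (hf _)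
        (by rw [mul_pow, hf, hf, one_mul]) (by
          rw [red_mul (hO _) (hO _), h2 _ _ (mul_mem (hc k) (hc k')) (by simp [hc']), hf', hf',
            h.mu_mul hθ hS (hc k) (hc k'), mul_inv]) }
  obtain ⟨μ, hμ, -⟩ := exists_hom_extend_of_coprime K l.toHomUnits (fun g k => by
    obtain ⟨t, ht, ht'⟩ := hfr g
    refine Units.ext (eq_of_red_eq_of_pow (M := M) hm (hf _) (hf _) ?_)
    have h4 : t * c k * t⁻¹ ∈ 𝐂 S :=
      (Subgroup.mem_normalizer_iff.1 (normalizer_le_normalizer_centralizer S ht) _).1 (hc k)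
    exact (h2 _ _ h4 (by simp [ht', hc'])).trans (by rw [h.ch.isClassFunction, ← hf']; rfl)) (by
    rw [ha]
    refine Nat.Coprime.pow_left _ ((hp.out.coprime_iff_not_dvd).2 fun h4 => hm (h4.trans ?_))
    exact orderOf_dvd_of_pow_eq_one (MonoidHom.ext fun k => Units.ext (hf k)))
  have hμ' : ∀ k : K, (μ k : ℂ) = f k := fun k => by rw [hμ]; rfl
  refine ⟨μ, fun n hn => Units.ext ?_, fun d hd => ?_⟩
  · have : n ∈ K := (hK n).2 ⟨1, one_mem _, by simpa using ((QuotientGroup.eq_one_iff _).2 hn).symm⟩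
    exact (hμ' ⟨n, this⟩).trans (h3 _ hn)
  · have h4 : d ∈ K := (hK d).2 ⟨d, hd, rfl⟩
    obtain ⟨h5, h6⟩ := h.mu_mem hθ hS hd
    simp only [map_one, Units.val_one, one_mul]
    rw [mul_div_assoc, hμ' ⟨d, h4⟩, red_mul (hO _) h5, h2 _ d hd rfl, inv_mul_cancel₀]
    intro h7
    rw [h7, zero_pow N.index_ne_zero_of_finite] at h6
    exact zero_ne_one h6

theorem cov_iff : g ∈ N ⊔ (𝐂 S) ↔ Cov N S g := by
  rw [sup_comm, ← SetLike.mem_coe, Subgroup.mul_normal]
  constructor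
  · rintro ⟨c, hc, n, hn, rfl⟩
    exact ⟨c, hc, by simp [(QuotientGroup.eq_one_iff _).2 hn]⟩
  · rintro ⟨c, hc, h⟩
    exact ⟨c, hc, _, QuotientGroup.eq.1 h, by simp⟩

theorem sy_sylow (P : Sylow p N) : Sy p N ((P : Subgroup N).map N.subtype) :=
  ⟨Subgroup.map_subtype_le _, by
    rw [Subgroup.relIndex, Subgroup.subgroupOf, Subgroup.comap_map_eq_self_of_injective
      N.subtype_injective]
    exact P.not_dvd_index⟩

theorem frattini (P : Sylow p N) (g : G) :
    ∃ m ∈ Subgroup.normalizer (((P : Subgroup N).map N.subtype : Subgroup G) : Set G),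
      (m : G ⧸ N) = g := by
  have h : g ∈ (⊤ : Subgroup G) := trivial
  rw [← Sylow.normalizer_sup_eq_top P, ← SetLike.mem_coe, Subgroup.mul_normal] at h
  obtain ⟨m, hm, n, hn, rfl⟩ := h
  exact ⟨m, hm, by simp [(QuotientGroup.eq_one_iff _).2 hn]⟩

end Prime

end Cfsg.Agent.Dade
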