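import Cfsg.Agent.Block.Glue
import Cfsg.Agent.BMod.Shape

/-!
Normalised generalized decomposition numbers of a block with abelian defect group whose inertial
quotient acts freely (`exists_sys_free`).
-/

set_option linter.unusedSectionVars false

namespace Cfsg.Agent.Block

open Cfsg MonoidAlgebra Cfsg.Agent.BMod Cfsg.Agent.Char Cfsg.Agent.Transfer Cfsg.Agent.CharDeep
open Module
open scoped ComplexConjugate

variable {p : ℕ} [hp : Fact p.Prime] {M : Ideal AlgInt} [PMod p M] {G : Type*} [Group G]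

local notation "𝐂" x:max => Subgroup.centralizer (x : Set G)
local notation "𝐙" => Subgroup.zpowers

section cor
variable {F : Type*} [Field F]

/-- The dimension of the corner algebra of `g` in the group algebra of `K`. -/
noncomputable def nS (K : Subgroup G) (g : F[G]) : ℕ :=
  finrank F ↥((supp F K).toSubmodule ⊓ cor F g)

lemma nS_inc [Finite G] (H : Subgroup G) (K : Subgroup H) (f : F[H]) :
    nS (K.map H.subtype) (inc H f) = nS K f := by
  have : (supp F (K.map H.subtype)).toSubmodule ⊓ cor F (inc H f) =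
      ((supp F K).toSubmodule ⊓ cor F f).map (inc H).toLinearMap := by
    ext y
    constructor
    · rintro ⟨h1, h2, h3⟩
      have h4 := inc_resA_of_mem (supp_mono (Subgroup.map_subtype_le K) h1)
      refine ⟨resA H y, ⟨inc_mem_supp_map.1 (h4.symm ▸ h1), inc_injective H ?_,
        inc_injective H ?_⟩, h4⟩
      · rw [map_mul, h4, h2]
      · rw [map_mul, h4, h3]
    · rintro ⟨x, ⟨h1, h2, h3⟩, rfl⟩
      exact ⟨inc_mem_supp_map.2 h1, by rw [AlgHom.toLinearMap_apply, ← map_mul, h2],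
        by rw [AlgHom.toLinearMap_apply, ← map_mul, h3]⟩
  rw [nS, this]
  exact (Submodule.equivMapOfInjective _ (inc_injective H) _).finrank_eq.symm

lemma nS_res [Finite G] {H : Subgroup G} {g : F[G]} (hg : g ∈ supp F H) :
    nS H g = finrank F (cor F (resA H g)) := by
  have h := nS_inc H ⊤ (resA H g)
  rw [inc_resA_of_mem hg, ← MonoidHom.range_eq_map, Subgroup.range_subtype] at h
  rw [h, nS, inf_eq_right.2 fun x _ => mem_supp_top x]

end cor

variable [Fintype G] {B : Set (IrrCharacter G)} {P : Subgroup G} {e : (F M)[G]} {x : G}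

lemma vl_eq_ev [Fintype (𝐂 (𝐙 x))] {η : G → ℂ} (hη : IsClassFunction G η)
    (hx : ∃ k, orderOf x = p ^ k) {f : (F M)[G]} (hi : IsIdempotentElem (br (𝐙 x) f)) :
    vl η x f = ev (sh (zu x) η) (lfi (resA (𝐂 (𝐙 x)) (br (𝐙 x) f))) := by
  have hs : IsSub p _ (zu x) := isSub_zpowers hx _
  have h0 := br_mem_supp (𝐙 x) f
  have h1 : IsIdempotentElem (resA (𝐂 (𝐙 x)) (br (𝐙 x) f)) := by
    rw [IsIdempotentElem, ← resA_mul h0 h0, hi.eq]
  obtain ⟨a1, a2, a3⟩ := lfi_spec h1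
  rw [Lf.vl_eq (ε := inc _ (lfi (resA (𝐂 (𝐙 x)) (br (𝐙 x) f)))) hη hx ⟨inc_mem_OG_iff.2 a1,
    mem_fix_of_supp_centralizer (inc_mem_supp _ _), a2.map _,
    by rw [redA_inc, a3, inc_resA_of_mem h0, br_br le_rfl]⟩]
  have e1 : single x (1 : ℂ) = inc _ (single (zu x) 1) := (inc_single _ (zu x) 1).symm
  rw [e1, ← map_mul, ev_inc, ev_mul_single, ev_eq_sum]
  refine Finset.sum_congr rfl fun c _ => ?_
  rw [sh_apply, (Subgroup.mem_center_iff.1 hs.mem_center c)]
  rfl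

/-- The column of a subsection with a single Brauer character. -/
theorem exists_col (hB : IsPBlock M B) (hm : IsMax p (eB M B) P e) (hx : x ∈ P ⊓ 𝐂 P)
    (hl : blockRank p (bu p P e x) = 1) : ∃ d : (G → ℂ) →ₗ[ℂ] ℂ,
      (∀ η θ, IsClassFunction G η → IsClassFunction G θ →
        Nat.card P * mu p P e x η θ = d η * conj (d θ)) ∧
      (∀ η, IsGeneralizedCharacter G η → IsIntegral ℤ (d η)) ∧
      (∃ Φ, ∀ η, pu p P e x η = d η • Φ) ∧
      ∀ j : (F M)[G], IsIdempotentElem (br (𝐙 x) j) → fu p P e x * br (𝐙 x) j = br (𝐙 x) j →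
        ∃ m : ℤ, m ^ 2 * Nat.card P = nS (𝐂 (𝐙 x)) (br (𝐙 x) j) ∧
          ∀ η, IsClassFunction G η → vl η x j = m * d η := by
  classical
  have := Fintype.ofFinite (𝐂 (𝐙 x))
  have he := hm.pair
  have hs := isSub_zu he hx.1
  have hb := isPBlock_bu he hx.1
  have hU := IsPBlock.isBlockUnion hb
  obtain ⟨φ, n, hφ, hφb, h1, h2⟩ := rank_one hb hl
  rw [defect_bu_of_center hB hm hx, ← IsDefectGroup.card_eq hB
    ((isDefectGroup_iff_isDef hB).2 hm.isDef), finsum_mem_eq_filter] at h2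
  set S := Finset.univ.filter (· ∈ bu p P e x)
  let d : (G → ℂ) →ₗ[ℂ] ℂ :=
    { toFun := fun η => ∑ ξ ∈ S, classInner (sh (zu x) η) ξ * n ξ
      map_add' := fun a b => by simp [classInner_add_left, add_mul, Finset.sum_add_distrib]
      map_smul' := fun c a => by
        simp only [map_smul, classInner_smul_left, RingHom.id_apply, smul_eq_mul, Finset.mul_sum,
          mul_assoc] }
  have h3 : ∀ η, rho p (blockPart (bu p P e x) (sh (zu x) η)) = d η • rho p φ := fun η => by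
    rw [blockPart_eq, map_sum]
    simp only [d, LinearMap.coe_mk, AddHom.coe_mk, S, Finset.sum_filter, Finset.sum_smul]
    refine Finset.sum_congr rfl fun ξ _ => ?_
    split_ifs with h
    · rw [map_smul, h1 ξ h, smul_smul]
    · simp
  have h4 : (Nat.card P : ℂ) * ctr p φ φ = 1 := by
    have h5 := blockRank_eq_sum hU
    rw [hl, Nat.cast_one, ← Finset.sum_filter, Finset.sum_congr rfl fun ξ hξ => by
      rw [ctr_eq_inner, h1 ξ (Finset.mem_filter.1 hξ).2, classInner_smul_left,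
        classInner_smul_right, ← ctr_eq_inner, map_natCast, ← mul_assoc, ← sq],
      ← Finset.sum_mul] at h5
    rw [h5, ← h2, Nat.cast_sum]; simp only [Nat.cast_pow]; rfl
  refine ⟨d, fun η θ hη hθ => ?_, fun η hη => ?_, ⟨EE p (zu x) φ, fun η => ?_⟩, fun j hi hj => ?_⟩
  · rw [mu_eq_mm he hx.1 _ hθ, mm, ctr_eq_inner, h3, h3, classInner_smul_left,
      classInner_smul_right, ← ctr_eq_inner]
    linear_combination d η * conj (d θ) * h4
  · refine IsIntegral.sum _ fun ξ _ => IsIntegral.mul ?_ (isIntegral_natCast _)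
    obtain ⟨k, hk⟩ := IsGeneralizedCharacter.exists_int_classInner
      (IsGeneralizedCharacter.restrict hη (𝐂 (𝐙 x))) (irrG ξ)
    rw [sh_eq_tr, classInner_tr_left, tr_irr (inv_mem hs.mem_center), classInner_smul_right, hk]
    refine IsIntegral.mul ?_ (isIntegral_intCast _)
    exact isIntegral_conj (IsCharacter.isIntegral (isCharacter_center_div ξ)
      ⟨_, inv_mem hs.mem_center⟩)
  · rw [pu_eq, pj, ← EE_rho, h3, map_smul, EE_rho]
  · have h0 := br_mem_supp (𝐙 x) j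
    set f := resA (𝐂 (𝐙 x)) (br (𝐙 x) j)
    have hf : IsIdempotentElem f := by rw [IsIdempotentElem, ← resA_mul h0 h0, hi.eq]
    have hbf : eB M (bu p P e x) * f = f := inc_injective _ (by
      rw [map_mul, inc_resA_of_mem h0, ← eS, eS_bu he hx.1, hj])
    obtain ⟨c, hc⟩ := exists_int_ev_lfi hφ hf
    have hφ' := IsGeneralizedCharacter.isClassFunction hφ
    refine ⟨c, ?_, fun η hη => ?_⟩
    · obtain ⟨h7, h8, h9⟩ := lfi_spec hf
      have h10 := BMod.finrank_cor h7 h8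
      rw [h9, ← Finset.sum_filter_add_sum_filter_not Finset.univ (· ∈ bu p P e x), Finset.sum_eq_zero
        (s := Finset.univ.filter fun χ => ¬ χ ∈ bu p P e x) fun χ hχ => by
          rw [ev_lfi_of_notMem hU (Finset.mem_filter.1 hχ).2 hf hbf]; simp, add_zero,
        Finset.sum_congr rfl fun χ hχ => by
          rw [ev_lfi_congr (irrC χ) (hφ'.smul (n χ : ℂ))
            (by rw [h1 χ (Finset.mem_filter.1 hχ).2, map_smul]) hf, ev_smul_left, hc, mul_pow],
        ← Finset.sum_mul, mul_comm] at h10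
      rw [nS_res h0, ← h2]
      exact_mod_cast h10.symm
    · rw [vl_eq_ev (x := x) hη hs.ord hi]
      change ev _ (lfi f) = _
      rw [← hbf, ← ev_blockPart_lfi hU (hs.isClassFunction_sh hη) hf,
        ev_lfi_congr (isClassFunction_blockPart _ _) (hφ'.smul (d η)) (by rw [h3, map_smul]) hf,
        ev_smul_left, hc, mul_comm]

lemma rank_bq (hm : IsMax p (eB M B) P e) (hab : P ≤ 𝐂 P) {Q : Subgroup G} (hQ : Q ≤ P)
    (h : NP P e ⊓ 𝐂 Q ≤ 𝐂 P) : blockRank p (bq p P e Q) = 1 :=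
  have := Fintype.ofFinite (𝐂 Q)
  (nil_bq hm hab hQ h).rank_one (isPBlock_bq hm.pair hQ)

lemma card_subgroupOf' {H : Subgroup G} (h : P ≤ H) : Nat.card (P.subgroupOf H) = Nat.card P :=
  Nat.card_congr (Subgroup.subgroupOfEquivOfLe h).toEquiv

/-- A source idempotent. -/
theorem exists_source (hm : IsMax p (eB M B) P e) (hab : P ≤ 𝐂 P) :
    ∃ j ∈ fix (F M) P, IsIdempotentElem j ∧ (∀ S ≤ P, fq p P e S * br S j = br S j) ∧
      nS (𝐂 P) (br P j) = Nat.card P := by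
  have := Fintype.ofFinite (𝐂 P)
  have he := hm.pair
  have hb := isPBlock_bq he le_rfl
  obtain ⟨i, hi⟩ := exists_onePt (IsPBlock.isBlockUnion hb) (rank_bq hm hab le_rfl inf_le_right)
  have h0 := inc_mem_supp (𝐂 P) i
  have h1 := mem_fix_of_supp_centralizer h0
  obtain ⟨T, hT⟩ := exists_dec (F M) (idem_mk h1 (hi.loc.idem.map _))
  obtain ⟨s, hs, h2⟩ : ∃ s ∈ T, br P (s : (F M)[G]) ≠ 0 := by
    by_contra! h
    have h3 := congrArg (fun s : fix (F M) P => br P (s : (F M)[G])) hT.sum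
    simp only [AddSubmonoidClass.coe_finsetSum, map_sum, br_eq_self h0] at h3
    rw [Finset.sum_eq_zero h, eq_comm, map_eq_zero_iff _ (inc_injective _)] at h3
    exact hi.loc.ne h3
  have h3 := (hT.loc s hs).coe_idem
  have h4 := br_mem_supp P (s : (F M)[G])
  have h5 : br P (s : (F M)[G]) = inc _ i := by
    have h6 := hT.mul_mem hs
    rcases hi.loc.eq (resA _ (br P (s : (F M)[G])))
      (by rw [IsIdempotentElem, ← resA_mul h4 h4, (br_idem he.1 h3 s.2).eq])
      (inc_injective _ (by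
        rw [map_mul, inc_resA_of_mem h4, ← br_mul_of_supp_left h0]
        exact congrArg (fun s : fix (F M) P => br P (s : (F M)[G])) h6.1))
      (inc_injective _ (by
        rw [map_mul, inc_resA_of_mem h4, ← br_mul_of_supp _ h0]
        exact congrArg (fun s : fix (F M) P => br P (s : (F M)[G])) h6.2)) with h | h
    · exact absurd (by rw [← inc_resA_of_mem h4, h, map_zero]) h2
    · rw [← h, inc_resA_of_mem h4]
  refine ⟨s, s.2, h3, fun S hS => (hT.loc s hs).mul_br_of_ple h2 he ?_ (fq_ple he hS), ?_⟩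
  · rw [h5, ← fq_eq (PLE.refl (P, e)), ← eS_bq he le_rfl, eS, ← map_mul, hi.le]
  · rw [h5, nS_res h0, resA_inc, hi.finrank_cor hb, ← IsDefectGroup.card_eq hb
      ((isDefectGroup_iff_isDef hb).2 (isMax_bq hm hab le_rfl).isDef), card_subgroupOf' hab]

lemma exists_sign {m : ℤ} {n N : ℕ} (hn : 0 < n) (h : m ^ 2 * n = N) :
    ∃ s : ℂ, Un s ∧ (m : ℂ) = s * (N / n).sqrt := by
  have h1 : N = m.natAbs * m.natAbs * n := by
    zify; rw [← h, abs_mul_abs_self, sq]
  rw [h1, Nat.mul_div_cancel _ hn, Nat.sqrt_eq]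
  rcases Int.natAbs_eq m with h | h
  · exact ⟨1, ⟨isIntegral_one, by simp⟩, by
      rw [one_mul, ← Int.cast_natCast, ← h]⟩
  · exact ⟨-1, ⟨isIntegral_one.neg, by simp⟩, by
      rw [neg_one_mul, ← Int.cast_natCast, ← Int.cast_neg, ← h]⟩

lemma exists_loc_char (hm : IsMax p (eB M B) P e) (hab : P ≤ 𝐂 P) {j : (F M)[G]}
    (hj : j ∈ fix (F M) P) (hi : IsIdempotentElem j) (h1 : ∀ S ≤ P, fq p P e S * br S j = br S j)
    {S : Subgroup G} (hS : S ≤ P) (h : NP P e ⊓ 𝐂 S ≤ 𝐂 P) :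
    ∃ W : P → ℂ, IsGeneralizedCharacter P W ∧ ∀ y : P, ∃ δ, Un δ ∧
      W y = δ * (nS (𝐂 (S ⊔ 𝐙 (y : G) : Subgroup G)) (br (S ⊔ 𝐙 (y : G)) j) / Nat.card P).sqrt := by
  have := Fintype.ofFinite (𝐂 S)
  have he := hm.pair
  have hb := isPBlock_bq he hS
  have hm' := isMax_bq hm hab hS
  have hPS : P ≤ 𝐂 S := hab.trans (centralizer_anti hS)
  obtain ⟨χ, hχ, h0⟩ := exists_height_zero p (IsPBlock.nonempty hb)
  have h2 := br_mem_supp S j
  have h3 : resA (𝐂 S) (br S j) ∈ fix (F M) (P.subgroupOf (𝐂 S)) := by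
    rw [← inc_mem_fix_map, inc_resA_of_mem h2, Subgroup.subgroupOf_map_subtype, inf_eq_left.2 hPS]
    exact br_mem_fix (hPS.trans (centralizer_le_normalizer' S)) hj
  have h4 : IsIdempotentElem (resA (𝐂 S) (br S j)) := by
    rw [IsIdempotentElem, ← resA_mul h2 h2, (br_idem (he.1.to_le hS) hi (fix_anti hS hj)).eq]
  refine ⟨_, IsGeneralizedCharacter.comp (isGen_vl (irrG χ) hm'.pair.1 h3 h4)
    (Subgroup.subgroupOfEquivOfLe hPS).symm.toMonoidHom, fun y => ?_⟩
  let y' : 𝐂 S := ⟨y, hPS y.2⟩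
  have hy : y' ∈ P.subgroupOf (𝐂 S) := y.2
  have hZ : Subgroup.zpowers y' ≤ P.subgroupOf (𝐂 S) := (Subgroup.zpowers_le (G := 𝐂 S)).2 hy
  have hab' := subgroupOf_le_centralizer (H := 𝐂 S) hab
  obtain ⟨d, d1, d2, -, d3⟩ := exists_col hb hm' ⟨hy, hab' hy⟩ (by
    rw [rank_bu_res he hab hS y.2]
    exact rank_bq hm hab (sup_le hS ((Subgroup.zpowers_le (G := G)).2 y.2))
      ((inf_le_inf_left _ (centralizer_anti le_sup_left)).trans h))
  have e1 : (Subgroup.zpowers y').map (𝐂 S).subtype = 𝐙 (y : G) := MonoidHom.map_zpowers _ _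
  have e2 : inc (𝐂 S) (br (Subgroup.zpowers y') (resA (𝐂 S) (br S j))) = br (S ⊔ 𝐙 (y : G)) j := by
    rw [← br_inc, inc_resA_of_mem h2, br_br_sup, e1, sup_comm]
  obtain ⟨m, m1, m2⟩ := d3 (resA _ (br S j)) (br_idem (hm'.pair.1.to_le hZ) h4 (fix_anti hZ h3))
    (inc_injective _ (by
      rw [map_mul, e2, fu, inc_fq he hab hS hZ, e1]
      exact h1 _ (sup_le hS ((Subgroup.zpowers_le (G := G)).2 y.2))))
  rw [← nS_inc, e2, map_subtype_centralizer, e1, ← centralizer_sup', card_subgroupOf' hPS] at m1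
  obtain ⟨s, s1, s2⟩ := exists_sign Nat.card_pos m1
  have h5 := (nil_bq hm hab hS h).mu_eq hb hm' hχ h0 hy
  rw [inf_eq_left.2 (hab'.trans (centralizer_anti hZ)), d1 _ _ (irrC χ) (irrC χ)] at h5
  refine ⟨s * d χ, s1.mul ⟨d2 _ (irrG χ), h5⟩, ?_⟩
  rw [mul_right_comm, ← s2, ← m2 _ (irrC χ)]
  rfl

variable (p e) in
/-- `d u` is the column of generalized decomposition numbers at `u`, up to a unit. -/
def DW (d : P → (G → ℂ) →ₗ[ℂ] ℂ) : Prop := ∀ u : P, u ≠ 1 → (∀ η θ, IsClassFunction G η →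
  IsClassFunction G θ → Nat.card P * mu p P e u η θ = d u η * conj (d u θ)) ∧
    ∃ n, ∀ η, pu p P e u η u = n * d u η

variable {d : P → (G → ℂ) →ₗ[ℂ] ℂ} {u : P} {χ : IrrCharacter G} {E : Subgroup (MulAut P)}

lemma DW.smul (hd : DW p e d) {ε : P → ℂ} (hε : ∀ u ≠ 1, ε u * conj (ε u) = 1) :
    DW p e fun u => ε u • d u := fun u hu => by
  obtain ⟨h1, n, h2⟩ := hd u hu
  simp only [LinearMap.smul_apply, smul_eq_mul, map_mul]
  exact ⟨fun η θ hη hθ => by rw [mul_mul_mul_comm, hε u hu, one_mul, h1 η θ hη hθ],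
    n * conj (ε u), fun η => by rw [h2]; linear_combination -n * d u η * hε u hu⟩

lemma DW.ne (hd : DW p e d) [Fintype P] (h : Sys0 p B P e (.refl P) E) (hu : u ≠ 1) (hχ : χ ∈ B) :
    d u χ ≠ 0 := fun h0 => by
  have h1 := (hd u hu).1 _ _ (irrC χ) (irrC χ)
  rw [h0, zero_mul] at h1
  exact mul_ne_zero natCard_cast_ne_zero (h.mu_ne hχ u) h1

lemma DW.sum_self (hd : DW p e d) [Fintype P] (h : Sys0 p B P e (.refl P) E) (hu : u ≠ 1) :
    ∑ χ : IrrCharacter G, d u χ * conj (d u χ) = Nat.card P := by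
  classical
  have h1 := sum_mu_self h.blk h.max u.2
  rw [show blockRank p (bu p P e u) = 1 from h.rank u hu, Nat.cast_one] at h1
  rw [← mul_one (Nat.card P : ℂ), ← h1, Finset.mul_sum]
  refine Finset.sum_congr rfl fun χ _ => ?_
  rw [← (hd u hu).1 _ _ (irrC χ) (irrC χ)]
  split_ifs with hχ
  · rfl
  · rw [mu, ← blockPart_pu h.blk h.max u.2, classInner_blockPart, if_neg hχ]

/-- Normalised generalized decomposition numbers. -/
theorem exists_sys_free [Fintype P] (hB : IsPBlock M B) (hm : IsMax p (eB M B) P e) (hab : P ≤ 𝐂 P)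
    (hT : ∀ u ∈ P, u ≠ 1 → NP P e ⊓ 𝐂 (𝐙 u) ≤ 𝐂 P) :
    ∃ D Θ, Sys p B P e (.refl P) (aE (.refl P) (NP P e)) D Θ := by
  classical
  have h := sys0_aE hB hm hab (.refl P) hT
  have he := hm.pair
  obtain ⟨j, hj, hi, h1, h2⟩ := exists_source hm hab
  have hZ : ∀ u : P, 𝐙 (u : G) ≤ P := fun u => (Subgroup.zpowers_le (G := G)).2 u.2
  choose! d d1 d2 d3 d4 using fun (u : P) (hu : u ≠ 1) =>
    exists_col hB hm ⟨u.2, hab u.2⟩ (h.rank u hu)
  choose! m m1 m2 using fun (u : P) (hu : u ≠ 1) =>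
    d4 u hu j (br_idem (he.1.to_le (hZ u)) hi (fix_anti (hZ u) hj)) (h1 _ (hZ u))
  choose! s s1 s2 using fun (u : P) (hu : u ≠ 1) => exists_sign Nat.card_pos (m1 u hu)
  choose! W W1 W2 using fun (S : Subgroup P) (hS : S ≠ ⊥) => exists_loc_char hm hab hj hi h1
    (Subgroup.map_subtype_le S) (by
      obtain ⟨x, hx⟩ := Subgroup.ne_bot_iff_exists_ne_one.1 hS
      exact (inf_le_inf_left _ (centralizer_anti ((Subgroup.zpowers_le (G := G)).2
        (Subgroup.mem_map_of_mem _ x.2)))).trans (hT _ x.1.2 fun e => hx (by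
          exact Subtype.ext (Subtype.ext e))))
  obtain ⟨ε, e1, e2⟩ := exists_glue (M := M) h.comm he.1 W (fun S => (nS (𝐂 (S.map P.subtype))
    (br (S.map P.subtype) j) / Nat.card P).sqrt) W1 (fun S hS y => by
      rw [Subgroup.map_sup, MonoidHom.map_zpowers]; exact W2 S hS y) (by
      rw [← MonoidHom.range_eq_map, Subgroup.range_subtype, h2, Nat.div_self Nat.card_pos]
      simpa using hp.out.ne_one)
  have hd : DW p e fun u => (ε u * s u) • d u := DW.smul (fun u hu => ⟨d1 u hu,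
    let ⟨Φ, h⟩ := d3 u hu; ⟨Φ u, fun η => by rw [h, mul_comm]; rfl⟩⟩)
      fun u hu => ((e1 u hu).mul (s1 u hu)).2
  have hg : ∀ χ : IrrCharacter G, GenP fun u => (ε u * s u) * d u χ := fun χ => by
    simp only [mul_assoc]
    refine e2 _ _ (isGen_vl (irrG χ) he.1 hj hi) fun x hx =>
      ⟨(s1 x hx).1.mul (d2 x hx _ (irrG χ)), ?_⟩
    rw [m2 x hx _ (irrC χ), s2 x hx, MonoidHom.map_zpowers, ← mul_assoc, mul_comm (s x)]
    rfl
  obtain ⟨ψ, hψ, h0⟩ := exists_height_zero p (IsPBlock.nonempty hB)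
  have hI : ∀ u ≠ 1, IsIntegral ℤ (((ε u * s u) • d u) ψ) := fun u hu =>
    ((e1 u hu).mul (s1 u hu)).1.mul (d2 u hu _ (irrG ψ))
  have hF := fun g hg u => (h.fz u _).2 ⟨g, hg, rfl⟩
  have hv := fun (g : MulAut P) u => (map_ne_one_iff _ g.injective (x := u)).2
  obtain ⟨ε', f1, f2, f3⟩ := exists_symm (M := M) h.comm he.1 h.cop hg
    (fun u hu => hd.sum_self h hu) (i₀ := ψ) (fun g hg u hu => by
      refine ⟨conj (((ε u * s u) • d u) ψ) / conj (((ε (g u) * s (g u)) • d (g u)) ψ), fun χ => ?_⟩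
      rw [div_mul_eq_mul_div, eq_div_iff ((map_ne_zero (starRingEnd ℂ)).2
        (hd.ne h (hv g u hu) hψ))]
      exact ((hd _ (hv g u hu)).1 _ _ (irrC χ) (irrC ψ)).symm.trans
        ((hF g hg u).mu_eq he u.2 (g u).2 (irrC χ) ψ ▸
          ((hd _ hu).1 _ _ (irrC χ) (irrC ψ)).trans (mul_comm _ _)))
    fun u hu h3 => by
      have h4 := (red_mu_ne_zero_iff hB hm u.2 ψ ψ).2 ⟨⟨hψ, h0⟩, hψ, h0⟩
      rw [← Nat.cast_pow, show p ^ blockDefect p (bu p P e u) = _ from h.pow_defect u,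
        (hd u hu).1 _ _ (irrC ψ) (irrC ψ), red_mul (mem_O_of_isIntegral (hI u hu))
          (mem_O_of_isIntegral (isIntegral_conj (hI u hu)))] at h4
      exact h4 (mul_eq_zero_of_left h3 _)
  have hd' := hd.smul f1
  choose D D1 D2 using f2
  choose! n hn using fun u hu => (hd' u hu).2
  refine ⟨D, h.mk' (n := n) (fun g hg u hu => mul_right_cancel₀ (hd'.ne h hu hψ) ?_) D1
    fun χ u hu => by rw [← D2 χ u hu]; exact ⟨hn u hu χ, (hd' u hu).1 _ _ (irrC χ) (irrC χ)⟩⟩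
  rw [← hn u hu, show pu p P e u ψ u = _ from (hF g hg u).pu_self_eq he u.2 (g u).2 (irrC ψ)]
  exact (congrArg _ (f3 g hg u hu ψ).symm).trans (hn _ (hv g u hu) ψ).symm

section abs
variable {A I : Type*} [Group A] [Fintype A] [Fintype I] {B : Set I} {E : Subgroup (MulAut A)}
  {D : I → A → ℂ}

omit [Fintype I] in
lemma sum_sq_eq_or (S : Finset I) {z : I → ℤ} (h0 : ∀ i ∈ S, z i ≠ 0) :
    ∑ i ∈ S, z i ^ 2 = S.card ∨ (S.card : ℤ) + 3 ≤ ∑ i ∈ S, z i ^ 2 := by
  classical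
  by_cases h : ∀ i ∈ S, z i ^ 2 = 1
  · exact .inl (by rw [Finset.sum_congr rfl h]; simp)
  push Not at h
  obtain ⟨i, hi, h⟩ := h
  have h1 := card_le_sum_sq (S.erase i) fun j hj => h0 j (Finset.mem_of_mem_erase hj)
  have h2 := Finset.card_erase_add_one hi
  have h3 : 2 ≤ |z i| := by
    have := Int.one_le_abs (h0 i hi)
    by_contra h4
    exact h (by rw [← sq_abs, show |z i| = 1 by omega]; rfl)
  rw [← Finset.add_sum_erase _ _ hi]
  right; nlinarith [sq_abs (z i)]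

open Classical in
theorem exc_form [Nontrivial A] (hA : ∀ a b : A, a * b = b * a)
    (hE : ∀ g ∈ E, ∀ u, g u = u → u ≠ 1 → g = 1) (hD : ∀ i, IsGeneralizedCharacter A (D i))
    (horth : ∀ u v, u ≠ 1 → v ≠ 1 → ∑ i, D i u * conj (D i v) =
      if ∃ g ∈ E, g u = v then (Nat.card A : ℂ) else 0) {d : I → ℤ} (hd : ∀ i, 0 < d i)
    (hd0 : ∀ u ≠ 1, ∑ i, conj (D i u) * d i = 0) (hB : ∀ i, ∀ u ≠ 1, i ∈ B ↔ D i u ≠ 0) :
    ∃ (X : Finset I) (r : ℕ) (z : I → ℤ) (s : ℤ), Nat.card B = X.card + r ∧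
      r * Nat.card E + 1 = Nat.card A ∧ (∀ i ∈ X, z i ≠ 0) ∧
      s + ∑ i ∈ X, z i ^ 2 = Nat.card E + 1 ∧ (s = 1 ∨ (1 ≤ s ∧ s + 1 = r) ∨ 4 ≤ s) := by
  choose a _ ha using fun i => exists_int_expansion hA (hD i)
  obtain ⟨u₀, hu₀⟩ := exists_ne (1 : A)
  have hE0 : 0 < Nat.card E := Nat.card_pos
  have hq := card_dual_quot hA hE
  have hA1 : 1 < Nat.card A := Finite.one_lt_card
  rw [Nat.card_coe_set_eq, Set.ncard_eq_toFinset_card']
  by_cases hr : Nat.card E + 1 < Nat.card A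
  · obtain ⟨ζ, δ, c, z, Y, hδ, h1, h2, h3, h4, h5, h6, h7, -⟩ :=
      exc_abstract hA hE hr a (fun i u _ => ha i u) horth hd hd0
    set X := Yᶜ.filter (z · ≠ 0)
    have hm : ∀ i, i ∈ B ↔ i ∈ X ∨ i ∈ Y := fun i => by
      by_cases hi : i ∈ Y
      · simp only [hi, or_true, iff_true]
        by_contra h8
        exact h7 i hi ⟨0, fun u hu => not_not.1 fun h9 => h8 ((hB i u hu).2 h9)⟩
      · simp [X, hi, hB i u₀ hu₀, h4 i hi u₀ hu₀]
    have hdis : Disjoint X Y := Finset.disjoint_left.2 fun i hi => by simp_all [X]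
    have h9 : 2 ≤ Y.card := by nlinarith
    rw [show ∑ i ∈ Yᶜ, z i ^ 2 = ∑ i ∈ X, z i ^ 2 from
      (Finset.sum_filter_of_ne (f := fun i => z i ^ 2) fun i _ h => by simpa using h).symm] at h6
    refine ⟨X, Y.card, z, _, by rw [show B.toFinset = X ∪ Y by ext; simp [hm],
      Finset.card_union_of_disjoint hdis], h2, fun i hi => (Finset.mem_filter.1 hi).2, h6, ?_⟩
    have h12 : (1 : ℤ) ≤ Y.card - 1 := by omega
    rcases eq_or_ne c 0 with rfl | hc
    · left; rcases hδ with rfl | rfl <;> simp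
    rcases eq_or_ne c δ with rfl | hc'
    · right; left; rcases hδ with rfl | rfl <;> constructor <;> linarith
    right; right
    by_cases h2 : c = -δ
    · rcases hδ with rfl | rfl <;> subst h2 <;> linarith
    have : 2 ≤ |c| := by rcases hδ with rfl | rfl <;> rcases abs_cases c with h | h <;> omega
    nlinarith [sq_abs c, sq_nonneg (c - δ)]
  · obtain ⟨x, h1, h0, h2, -⟩ := gram_abstract hA hE a (fun i u _ => ha i u) horth
    have hr' : Nat.card E + 1 = Nat.card A := by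
      rcases Nat.eq_zero_or_pos (Nat.card {q : Quotient (dualSetoid E) // q ≠ ⟦1⟧}) with h | h <;>
        nlinarith
    have h3 : ∀ ψ ≠ 1, Finset.univ.filter (dualSetoid E ψ) = Finset.univ.erase 1 := fun ψ hψ => by
      refine Finset.eq_of_subset_of_card_le (fun l hl => ?_) ?_
      · simpa using fun (h : l = 1) => hψ (dual_one (h ▸ (Finset.mem_filter.1 hl).2))
      · rw [Finset.card_erase_of_mem (Finset.mem_univ _), Finset.card_univ,
          ← Nat.card_eq_fintype_card, card_hom hA, ← hr', ← card_dual_class hA hE hψ]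
        exact Finset.card_le_card fun l hl => by
          simpa using (dualSetoid E).symm (Finset.mem_filter.1 hl).2
    have h4 : ∀ ψ ≠ 1, ∀ φ ≠ 1, dualSetoid E ψ φ := fun ψ hψ φ hφ =>
      (Finset.mem_filter.1 ((h3 ψ hψ).ge (by simpa using hφ))).2
    have : Nontrivial (A →* ℂˣ) := Finite.one_lt_card_iff_nontrivial.1 (card_hom hA ▸ hA1)
    obtain ⟨ψ₀, hψ₀⟩ := exists_ne (1 : A →* ℂˣ)
    have h5 : ∀ i, ∀ u ≠ 1, D i u = x ψ₀ i := fun i u hu => by
      rw [h1 i u hu, ← Finset.add_sum_erase _ _ (Finset.mem_univ 1), h0,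
        Finset.sum_congr rfl (g := fun l => x ψ₀ i * (l u : ℂ)) fun l hl => ?_,
        ← Finset.mul_sum, sum_erase_dual hA hu]
      · simp
      have hl := Finset.ne_of_mem_erase hl
      rw [show x l = x ψ₀ from sub_eq_zero.1 (dotProduct_self_eq_zero.1 (by
        simp [sub_dotProduct, dotProduct_sub, h2, h4, hl, hψ₀]))]
    have hX : ∀ i, i ∈ B.toFinset ↔ x ψ₀ i ≠ 0 := fun i => by simp [hB i u₀ hu₀, h5 i u₀ hu₀]
    have h6 : ∑ i ∈ B.toFinset, x ψ₀ i ^ 2 = Nat.card E + 1 := by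
      rw [Finset.sum_subset (Finset.subset_univ _) fun i _ hi => by simpa [hX] using hi]
      simpa [h4, hψ₀, dotProduct, sq] using h2 ψ₀ hψ₀ ψ₀ hψ₀
    obtain ⟨i, hi⟩ := B.toFinset.eq_empty_or_nonempty.resolve_left fun h => by
      rw [h, Finset.sum_empty] at h6; omega
    refine ⟨B.toFinset.erase i, 1, x ψ₀, x ψ₀ i ^ 2, (Finset.card_erase_add_one hi).symm,
      by rw [one_mul, hr'], fun j hj => (hX j).1 (Finset.mem_of_mem_erase hj),
      by rw [Finset.add_sum_erase _ (fun i => x ψ₀ i ^ 2) hi, h6], ?_⟩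
    have := sum_sq_eq_or {i} (z := x ψ₀) (by simpa using (hX i).1 hi)
    simp only [Finset.sum_singleton, Finset.card_singleton] at this
    omega

end abs

section sys
variable {A : Type*} [Group A] [Fintype A] {ι : A ≃* P} {E : Subgroup (MulAut A)}
  {D : IrrCharacter G → A → ℂ} {Θ : A → G → ℂ}

theorem _root_.Cfsg.Agent.BMod.Sys.form [Nontrivial A] (h : Sys p B P e ι E D Θ) :
    ∃ (r : ℕ) (s t : ℤ), Nat.card B = blockRank p B + r ∧ r * Nat.card E + 1 = Nat.card A ∧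
      (t = blockRank p B ∨ blockRank p B + 3 ≤ t) ∧ s + t = Nat.card E + 1 ∧
      (s = 1 ∨ (1 ≤ s ∧ s + 1 = r) ∨ 4 ≤ s) := by
  obtain ⟨X, r, z, s, h1, h2, h3, h4⟩ := exc_form h.comm h.free h.gen (fun _ _ => h.orth)
    (d := fun χ => charDegree χ.1) (fun χ => Int.natCast_pos.2 (deg_pos χ.2)) (fun u hu => by
      simp only [Int.cast_natCast, deg_cast_irr]
      rw [h.sum_conj hu, h.apply_reg hu (by simpa using hp.out.one_lt.ne'), mul_zero])
    (fun χ u hu => ⟨fun hχ => h.ne hχ hu, fun h1 => not_not.1 fun h2 => h1 (h.eq_zero h2 hu)⟩)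
  have h5 := h.card_eq
  rw [h1, ← h2] at h5
  have h6 : X.card = blockRank p B := Nat.eq_of_mul_eq_mul_right Nat.card_pos (by nlinarith)
  exact ⟨r, s, _, h6 ▸ h1, h2, h6 ▸ sum_sq_eq_or X h3, h4⟩

end sys

/-- Blocks with abelian defect group and a freely acting inertial quotient. -/
theorem frob_block (hB : IsPBlock M B) (hm : IsMax p (eB M B) P e) (hab : P ≤ 𝐂 P) (h1 : P ≠ ⊥)
    (hT : ∀ u ∈ P, u ≠ 1 → NP P e ⊓ 𝐂 (𝐙 u) ≤ 𝐂 P) {m : ℕ} (hm' : (𝐂 P).relIndex (NP P e) = m) :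
    ∃ r, Nat.card B = blockRank p B + r ∧ r * m + 1 = Nat.card P ∧ blockRank p B ≤ m ∧
      (m ≤ 3 → blockRank p B = m) := by
  have := Fintype.ofFinite P
  have := (Subgroup.nontrivial_iff_ne_bot P).2 h1
  obtain ⟨D, Θ, h⟩ := exists_sys_free hB hm hab hT
  obtain ⟨r, s, t, a1, a2, a3, a4, a5⟩ := h.form
  rw [card_aE _ NP_le_normalizer, hm'] at a2 a4
  refine ⟨r, a1, a2, by omega, fun h3 => ?_⟩
  have h4 := blockRank_pos (p := p) (IsPBlock.nonempty hB)
  by_cases hc : (Nat.card P).Prime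
  · exact (rank_eq_of_cyclic hB hm (@isCyclic_of_prime_card _ _ _ ⟨hc⟩ rfl)).trans hm'
  rcases a5 with rfl | ⟨a5, a6⟩ | a5
  · omega
  · have : m = 1 ∨ (m = 2 ∧ r = 2) ∨ (m = 3 ∧ r = 2) ∨ Nat.card P = 7 ∨ Nat.card P = 10 ∨
        Nat.card P = 13 := by
      have : r ≤ 4 := by omega
      interval_cases m <;> interval_cases r <;> omega
    rcases this with h | h | h | h | h | h
    · omega
    · omega
    · omega
    · exact absurd (h ▸ by norm_num) hc
    · rw [← pow_defect_eq hB hm] at h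
      have h2 := (Nat.prime_dvd_prime_iff_eq Nat.prime_two hp.out).1
        (Nat.prime_two.dvd_of_dvd_pow (by rw [h]; norm_num))
      have h5 := (Nat.prime_dvd_prime_iff_eq Nat.prime_five hp.out).1
        (Nat.prime_five.dvd_of_dvd_pow (by rw [h]; norm_num))
      omega
    · exact absurd (h ▸ by norm_num) hc
  · omega

lemma Inv3.free (h : Inv3 P) (hP : IsPGroup 2 P) {K : Subgroup G}
    (hK : K ≤ Subgroup.normalizer (P : Set G)) (hC : 𝐂 P ≤ K) (ho : ¬ 2 ∣ (𝐂 P).relIndex K) {z : G}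
    (hz : z ∈ P) (hz1 : z ≠ 1) : K ⊓ 𝐂 (𝐙 z) ≤ 𝐂 P := by
  have hZ := (Subgroup.zpowers_le (G := G)).2 hz
  obtain ⟨π, h1, h2⟩ := exists_norm (K := K ⊓ 𝐂 (𝐙 z)) (fun x hx y hy => h.comm y hy x hx) hP
    (inf_le_left.trans hK) fun h3 => ho (h3.trans (Dvd.intro _ (Subgroup.relIndex_mul_relIndex _ _ _
      (le_inf hC (centralizer_anti hZ)) inf_le_left)))
  obtain ⟨b, hb, hb2⟩ := Invol.exists_invol_mem_of_isPGroup (hP.to_le hZ) (by simpa using hz1)
  have h3 : π ⟨b, hZ hb⟩ ≠ 1 := fun e => Invol.ne_one_of hb2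
    (congrArg Subtype.val (h2 _ (fun k hk => (hk.2 b hb).symm) e))
  have hc := fun k (hk : k ∈ K ⊓ 𝐂 (𝐙 z)) (u : P) => (Subgroup.mem_normalizer_iff.1 (hK hk.1) u).1 u.2
  have h4 : π.ker.map P.subtype = ⊥ := by
    by_contra h4
    obtain ⟨_, ⟨a, ha, rfl⟩, ha2⟩ := Invol.exists_invol_mem_of_isPGroup
      (hP.to_le (Subgroup.map_subtype_le _)) h4
    refine Invol.ne_one_of ha2 (congrArg Subtype.val (h2 a (fun k hk => ?_) ha))
    have h5 : π ⟨_, hc k hk a⟩ = 1 := (h1 k hk a _ rfl).symm.trans ha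
    rcases h.cases a.2 (hZ hb) (hc k hk a) ha2 hb2 (by rw [orderOf_conj']; exact ha2)
      (fun hab => h3 (by rw [← show a = ⟨b, hZ hb⟩ from Subtype.ext hab]; exact ha)) with e | e | e
    · exact mul_inv_eq_iff_eq_mul.1 e
    · exact absurd (by simpa only [e] using h5) h3
    · rw [show (⟨_, hc k hk a⟩ : P) = a * ⟨b, hZ hb⟩ from Subtype.ext e, map_mul,
        show π a = 1 from ha, one_mul] at h5
      exact absurd h5 h3
  rw [Subgroup.map_eq_bot_iff_of_injective _ P.subtype_injective, MonoidHom.ker_eq_bot_iff] at h4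
  exact fun k hk u hu => (mul_inv_eq_iff_eq_mul.1
    (congrArg Subtype.val (h4 (h1 k hk ⟨u, hu⟩ ⟨_, hc k hk ⟨u, hu⟩⟩ rfl))).symm).symm

theorem Inv3.block {M : Ideal AlgInt} [PMod 2 M] {e : (F M)[G]} (h : Inv3 P) (hB : IsPBlock M B)
    (hm : IsMax 2 (eB M B) P e) {m : ℕ} (hm' : (𝐂 P).relIndex (NP P e) = m) :
    (m = 1 ∨ m = 3) ∧ blockRank 2 B = m ∧ Nat.card B * m + 1 = m * m + Nat.card P := by
  have := Fintype.ofFinite P
  have hab : P ≤ 𝐂 P := fun x hx y hy => h.comm y hy x hx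
  have ho := hm.not_dvd_of_comm hab
  have hT := fun u => h.free hm.pair.1 NP_le_normalizer hm.pair.centralizer_le_NP ho (z := u)
  obtain ⟨z, hz, hz2⟩ := h.exists_invol
  have h1 : m ≤ 3 := by
    rw [← hm', ← card_aE (.refl P) NP_le_normalizer, ← h.card, ← Nat.card_coe_set_eq]
    refine Nat.card_le_card_of_injective (fun g => ⟨g.1 ⟨z, hz⟩, Subtype.prop _, by
      rw [Subgroup.orderOf_coe, MulEquiv.orderOf_eq, ← Subgroup.orderOf_coe, hz2]⟩) fun g g' e => ?_
    refine inv_mul_eq_one.1 (Subtype.ext ((sys0_aE hB hm hab (.refl P) hT).free _ (g⁻¹ * g').2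
      ⟨z, hz⟩ ?_ fun e => Invol.ne_one_of hz2 (congrArg Subtype.val e)))
    exact g.1.symm_apply_eq.2 (Subtype.ext (congrArg Subtype.val e).symm)
  obtain ⟨r, a1, a2, -, a3⟩ := frob_block hB hm hab
    (fun e => Invol.ne_one_of hz2 (Subgroup.mem_bot.1 (e ▸ hz))) hT hm'
  exact ⟨by omega, a3 h1, by rw [a1, a3 h1, ← a2]; ring⟩

end Cfsg.Agent.Block
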