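import Cfsg.Agent.Block.Section
import Cfsg.Agent.CharDeep.Extend
import Cfsg.Agent.Char.FS
import Cfsg.Agent.Gen2.FrobCompl

/-! Codegrees, products of classes and other small character-theoretic lemmas. (helper12) -/

set_option autoImplicit false
open scoped ComplexConjugate

namespace Cfsg.Agent.Block
open Cfsg Cfsg.Agent.Char Cfsg.Agent.CharDeep Subgroup

variable {G : Type*} [Group G] [Finite G]

theorem card_ker_eq (χ : IrrCharacter G) :
    Nat.card {g : G // χ.1 g = χ.1 1} = Nat.card (charKer χ.1) :=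
  Nat.card_congr (Equiv.subtypeEquivRight fun _ => χ.2.isCharacter.mem_charKer.symm)

theorem cod_eq (χ : IrrCharacter G) :
    Nat.card G / (Nat.card {g : G // χ.1 g = χ.1 1} * charDegree χ.1) =
      (charKer χ.1).index / charDegree χ.1 := by
  rw [card_ker_eq, ← Nat.div_div_eq_div_mul, ← (charKer χ.1).card_mul_index,
    Nat.mul_div_cancel_left _ Nat.card_pos]

theorem cod_mul (χ : IrrCharacter G) : Nat.card G / (Nat.card {g : G // χ.1 g = χ.1 1} *
    charDegree χ.1) * charDegree χ.1 = (charKer χ.1).index := by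
  rw [cod_eq, Nat.div_mul_cancel (χ.2.charDegree_dvd_index_of_le_charCenter _
    (charKer_le_charCenter _))]

theorem cod_dvd (χ : IrrCharacter G) :
    Nat.card G / (Nat.card {g : G // χ.1 g = χ.1 1} * charDegree χ.1) ∣ Nat.card G :=
  (Dvd.intro _ (cod_mul χ)).trans (index_dvd_card _)

theorem exists_faithful_quot {χ : G → ℂ} (h : IsIrrCharacter G χ) :
    ∃ (_ : (charKer χ).Normal) (φ : IrrCharacter (G ⧸ charKer χ)), (∀ g : G, φ.1 g = χ g) ∧
      (∀ g, φ.1 g = φ.1 1 → g = 1) ∧ charDegree φ.1 = charDegree χ := by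
  haveI := h.isClassFunction.normal_charKer
  obtain ⟨φ, h1, h2⟩ := h.exists_quotient (charKer χ) fun g hg => h.isCharacter.mem_charKer.1 hg
  refine ⟨this, ⟨φ, h1⟩, h2, fun g hg => ?_, charDegree_eq_of_apply_one
    ((h2 1).trans h.apply_one_eq_charDegree)⟩
  obtain ⟨g, rfl⟩ := QuotientGroup.mk_surjective g
  exact (QuotientGroup.eq_one_iff g).2 (h.isCharacter.mem_charKer.2 ((h2 g).symm.trans (hg.trans (h2 1))))

/-- A faithful character of prime codegree. -/
theorem prime_cod {χ : G → ℂ} (h : IsIrrCharacter G χ) {p : ℕ} (hp : p.Prime)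
    (hc : Nat.card G = p * charDegree χ) :
    ∃ P : Subgroup G, P.Normal ∧ Nat.card P = p ∧ P.index = charDegree χ ∧ charDegree χ < p ∧
      ∀ x ∈ P, x ≠ 1 → centralizer {x} = P := by
  classical
  haveI := Fact.mk hp
  have h0 := h.charDegree_pos
  have h1 : charDegree χ < p := by
    by_cases h1 : charDegree χ = 1
    · exact h1 ▸ hp.one_lt
    have h2 := Finset.sum_le_sum_of_subset (f := fun ψ : IrrCharacter G => charDegree ψ.1 ^ 2)
      (Finset.subset_univ {⟨χ, h⟩, irrOne G})
    rw [sum_charDegree_sq, Finset.sum_pair fun h3 => h1 (charDegree_eq_of_apply_one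
      (by simpa using congrArg (fun ψ : IrrCharacter G => ψ.1 1) h3)), hc] at h2
    have := (irrOne G).2.charDegree_pos
    nlinarith
  obtain ⟨x, hx⟩ := exists_prime_orderOf_dvd_card' (G := G) p (hc ▸ dvd_mul_right _ _)
  have h2 : Nat.card (zpowers x) = p := (Nat.card_zpowers x).trans hx
  have h3 : (zpowers x).index = charDegree χ :=
    Nat.eq_of_mul_eq_mul_left hp.pos (by rw [← hc, ← h2, card_mul_index])
  let P := (IsPGroup.of_card (h2.trans (pow_one p).symm)).toSylow
    (h3 ▸ Nat.not_dvd_of_pos_of_lt h0 h1)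
  have h4 : Nat.card (Sylow p G) = 1 := by
    have h4 := (Nat.le_of_dvd (h3 ▸ h0) P.card_dvd_index).trans_lt (h3.trans_lt h1)
    exact (card_sylow_modEq_one p G).eq_of_lt_of_lt h4 hp.one_lt
  haveI := (Nat.card_eq_one_iff_unique.1 h4).1
  refine ⟨zpowers x, P.normal_of_subsingleton, h2, h3, h1, fun y hy hy1 => le_antisymm
    (fun z hz => ?_) fun z hz => mem_centralizer_singleton_iff.2 (setLike_mul_comm hz hy)⟩
  have h5 : zpowers y = zpowers x := eq_of_le_of_card_ge (zpowers_le.2 hy) (by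
    rw [h2, Nat.card_zpowers, orderOf_eq_prime
      (orderOf_dvd_iff_pow_eq_one.1 (h2 ▸ orderOf_dvd_natCard _ hy)) hy1])
  have h6 := h.charDegree_le_index_of_comm (closure {y, z}) fun a ha b hb =>
    haveI : IsMulCommutative (closure {y, z}) := isMulCommutative_closure (by
      rintro a (rfl | rfl) b (rfl | rfl) <;> simp [mem_centralizer_singleton_iff.1 hz])
    setLike_mul_comm ha hb
  have h7 : zpowers x ≤ closure {y, z} := h5 ▸ zpowers_le.2 (subset_closure (by simp))
  rw [eq_of_le_of_card_ge h7 (Nat.le_of_mul_le_mul_right (c := (zpowers x).index) (by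
    rw [card_mul_index, ← (closure {y, z}).card_mul_index]
    exact Nat.mul_le_mul_left _ (h3 ▸ h6)) (h3 ▸ h0))]
  exact subset_closure (by simp)

theorem sum_apply_mul_comm [Fintype G] {χ : G → ℂ} (h : IsIrrCharacter G χ) (u : G) :
    ∑ c : G, ∑ d : G, χ (u * (c * d * c⁻¹ * d⁻¹)) = (Nat.card G / χ 1) ^ 2 * χ u := by
  rw [Finset.sum_comm, ← Equiv.sum_comp (Equiv.inv G), Finset.sum_congr rfl fun d _ => by
    rw [Finset.sum_congr rfl fun c _ => by
      rw [← mul_assoc, h.isClassFunction.apply_mul_comm, ← mul_assoc], h.sum_mul_conj_eq]]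
  have h1 := h.sum_conj_mul_apply_mul h u
  simp only [Equiv.inv_apply, inv_inv, h.apply_inv, if_true] at h1 ⊢
  rw [← Finset.sum_div, Finset.sum_congr rfl fun d _ => by rw [mul_assoc, mul_comm (χ _)],
    ← Finset.mul_sum, h1]
  ring

theorem conj_mul_conj_iff (x y : G) :
    (∀ z : G, IsConj (x * y) z ↔ ∃ a b : G, z = a * x * a⁻¹ * (b * y * b⁻¹)) ↔
      ∀ (a b : G) (χ : IrrCharacter G), χ.1 1 * χ.1 (a * x * a⁻¹ * (b * y * b⁻¹)) = χ.1 x * χ.1 y := by
  letI := Fintype.ofFinite G
  refine ⟨fun h a b χ => ?_, fun h z => ⟨fun hz => ?_, ?_⟩⟩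
  · have h1 : ∀ a b, χ.1 (a * x * a⁻¹ * (b * y * b⁻¹)) = χ.1 (x * y) := fun a b =>
      (χ.2.isClassFunction.apply_eq_of_isConj ((h _).2 ⟨a, b, rfl⟩)).symm
    have h2 := χ.2.sum_mul_conj_eq (1 * x * 1⁻¹) y
    simp only [h1, Finset.sum_const, Finset.card_univ, ← Nat.card_eq_fintype_card] at h2
    have h3 := χ.2.apply_one_ne_zero
    have h4 := card_ne_zero' G
    rw [h1]; simp only [one_mul, inv_one, mul_one, nsmul_eq_mul] at h2
    field_simp at h2
    linear_combination h2
  · obtain ⟨c, rfl⟩ := isConj_iff.1 hz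
    exact ⟨c, c, by group⟩
  · rintro ⟨a, b, rfl⟩
    refine (isConj_iff_forall_irr _ _).2 fun χ => mul_left_cancel₀ χ.2.apply_one_ne_zero ?_
    simpa [h a b χ] using h 1 1 χ

/-- If all characters not containing `N` in the kernel vanish at `g` then `g` is conjugate to
every `y` at which the other characters agree. -/
theorem isConj_of_vanish (Q : IrrCharacter G → Prop) (h1 : Q (irrOne G)) {g y : G}
    (h2 : ∀ χ, ¬ Q χ → χ.1 g = 0) (h3 : ∀ χ, Q χ → χ.1 y = χ.1 g) : IsConj g y := by
  by_contra h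
  have h4 := sum_irr_mul_conj_of_not_isConj h
  rw [Finset.sum_congr rfl (g := fun χ : IrrCharacter G => ((Complex.normSq (χ.1 g) : ℝ) : ℂ))
    fun χ _ => by
      by_cases h5 : Q χ
      · rw [h3 χ h5, Complex.mul_conj]
      · simp [h2 χ h5], ← Complex.ofReal_sum, Complex.ofReal_eq_zero,
    Finset.sum_eq_zero_iff_of_nonneg fun _ _ => Complex.normSq_nonneg _] at h4
  simpa using h4 (irrOne G) (Finset.mem_univ _)

end Cfsg.Agent.Block
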