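import Cfsg.Agent.Block.Dade

/-!
`p`-rational extensions in the principal block.
-/

set_option autoImplicit false
set_option linter.unusedSectionVars false

namespace Cfsg.Agent.Dade

open MonoidAlgebra Transfer Block BMod Cfsg.Agent.Char CharDeep Module
open scoped ComplexConjugate Classical

theorem mem_of_fixed (K : IntermediateField ℚ ℂ) {x : ℂ} (hx : IsIntegral ℤ x)
    (h : ∀ σ : ℂ ≃+* ℂ, (∀ y ∈ K, σ y = y) → σ x = x) : x ∈ K := by
  let x' : algebraicClosure K ℂ :=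
    ⟨x, mem_algebraicClosure_iff.mpr ((isAlgebraic_rat_of_isIntegral hx).tower_top K)⟩
  have : IsAlgClosure K (algebraicClosure K ℂ) := algebraicClosure.isAlgClosure K ℂ
  have : IsGalois K (algebraicClosure K ℂ) := inferInstance
  obtain ⟨q, hq⟩ := (InfiniteGalois.mem_range_algebraMap_iff_fixed (k := K) x').mpr fun τ => by
    obtain ⟨σ, hσ⟩ := exists_ringEquiv_extend τ.toRingEquiv
    exact Subtype.ext ((hσ x').symm.trans (h σ fun y hy =>
      (hσ (algebraMap K _ ⟨y, hy⟩)).trans (congrArg Subtype.val (τ.commutes ⟨y, hy⟩))))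
  have h1 : (q : ℂ) = x := congrArg Subtype.val hq
  exact h1 ▸ q.2

theorem fixed_of_mem_adjoin {ζ x : ℂ} (σ : ℂ ≃+* ℂ) (h : σ ζ = ζ)
    (hx : x ∈ IntermediateField.adjoin ℚ {ζ}) : σ x = x :=
  IntermediateField.adjoin_induction ℚ (p := fun y _ => σ y = y) (by simpa using h)
    (fun q => by simp) (fun a b _ _ ha hb => by simp [ha, hb]) (fun a _ ha => by simp [ha])
    (fun a b _ _ ha hb => by simp [ha, hb]) hx

variable {p : ℕ} [hp : Fact p.Prime] {M : Ideal AlgInt} [PMod p M]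
variable {G : Type*} [Group G] [Fintype G] {N S : Subgroup G} [hN : N.Normal]
  {c d g : G} {χ ψ : G → ℂ} {θ : IrrCharacter N}

local notation "𝐂" S => Subgroup.centralizer (S : Set _)

theorem detChar_gal (h : IsCharacter G χ) (σ : ℂ →+* ℂ) (g : G) :
    detChar (fun g => σ (χ g)) g = σ (detChar χ g) := by
  obtain ⟨n, R, rfl⟩ := h.exists_matrix
  have h1 : (fun g => σ (R g).trace) = (matrixRep (σ.mapMatrix.toMonoidHom.comp R)).character := by
    rw [character_matrixRep]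
    ext g
    exact AddMonoidHom.map_trace σ _
  rw [h1, ← character_matrixRep, detChar_character, detChar_character, matrixRep_apply,
    matrixRep_apply, LinearMap.det_toLin', LinearMap.det_toLin', RingHom.map_det]
  rfl

theorem detChar_pow_card (h : IsCharacter G χ) (g : G) : detChar χ g ^ Nat.card G = 1 := by
  rw [← coe_detHom h, ← Units.val_pow_eq_pow_val, ← map_pow, pow_card_eq_one', map_one,
    Units.val_one]

theorem not_dvd_detOrder (hodd : p ≠ 2) (h : IsCharacter G χ) {m : ℕ} (hm : ¬ p ∣ m)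
    (hrat : ∀ g, χ g ∈ IntermediateField.adjoin ℚ {Complex.exp (2 * Real.pi * Complex.I / m)}) :
    ¬ p ∣ detOrder χ := by
  rw [detOrder_eq_orderOf_detHom h]
  intro h1
  have hm0 : m ≠ 0 := by rintro rfl; simp at hm
  have h2 := orderOf_pow_orderOf_div (orderOf_hom_pos (detHom h)).ne' h1
  obtain ⟨g, hg⟩ : ∃ g, (detHom h ^ (orderOf (detHom h) / p)) g ≠ 1 := by
    by_contra! h3
    rw [show detHom h ^ (orderOf (detHom h) / p) = 1 from MonoidHom.ext h3, orderOf_one] at h2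
    exact hp.out.ne_one h2.symm
  have h3 : (detHom h ^ (orderOf (detHom h) / p)) g ^ p = 1 := by
    have := pow_orderOf_eq_one (detHom h ^ (orderOf (detHom h) / p))
    rw [h2] at this
    exact DFunLike.congr_fun this g
  rw [MonoidHom.pow_apply, ← map_pow] at hg h3
  generalize g ^ (orderOf (detHom h) / p) = x at hg h3
  have hc : p.Coprime m := hp.out.coprime_iff_not_dvd.2 hm
  obtain ⟨k, hk1, hk2⟩ := Nat.chineseRemainder hc 2 1
  have hk : k.Coprime (p * m) := by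
    refine Nat.Coprime.mul_right ?_ ?_
    · rw [Nat.Coprime, hk1.gcd_eq]; exact (Nat.coprime_primes Nat.prime_two hp.out).2 hodd.symm
    · rw [Nat.Coprime, hk2.gcd_eq]; simp
  obtain ⟨σ, hσ⟩ := exists_ringEquiv_pow (mul_ne_zero hp.out.ne_zero hm0) hk
  have hζ := (Complex.isPrimitiveRoot_exp m hm0).pow_eq_one
  have h4 : (fun g => σ (χ g)) = χ := funext fun g => fixed_of_mem_adjoin σ (by
    rw [hσ _ (by rw [pow_mul', hζ, one_pow]), pow_eq_pow_mod k hζ, hk2,
      ← pow_eq_pow_mod 1 hζ, pow_one]) (hrat g)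
  have h5 := detChar_gal h (σ : ℂ →+* ℂ) x
  have h6 : (detHom h x : ℂ) ^ p = 1 := by rw [← Units.val_pow_eq_pow_val, h3, Units.val_one]
  rw [RingHom.coe_coe, h4, ← coe_detHom h, hσ _ (by rw [pow_mul, h6, one_pow]),
    pow_eq_pow_mod k h6, hk1, ← pow_eq_pow_mod 2 h6, sq] at h5
  exact hg (Units.ext (mul_left_cancel₀ (detHom h x).ne_zero (h5.symm.trans (mul_one _).symm)))

/-- extension to the preimage of a Sylow `q`-subgroup of `G / N` -/
theorem exists_sylow_over (N : Subgroup G) [N.Normal] (q : ℕ) [Fact q.Prime] :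
    ∃ R : Subgroup G, N ≤ R ∧ ¬ q ∣ R.index ∧ ∃ k, (N.subgroupOf R).index = q ^ k := by
  obtain ⟨P⟩ : Nonempty (Sylow q (G ⧸ N)) := inferInstance
  have h1 : N ≤ (P : Subgroup (G ⧸ N)).comap (QuotientGroup.mk' N) := QuotientGroup.le_comap_mk' _ _
  refine ⟨_, h1, ?_, ?_⟩
  · rw [Subgroup.index_comap_of_surjective _ (QuotientGroup.mk'_surjective N)]
    exact P.not_dvd_index
  · obtain ⟨k, hk⟩ := P.isPGroup'.exists_card_eq
    refine ⟨k, ?_⟩
    have h2 := Subgroup.relIndex_mul_index h1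
    rw [Subgroup.index_comap_of_surjective _ (QuotientGroup.mk'_surjective N), N.index_eq_card,
      ← (P : Subgroup (G ⧸ N)).card_mul_index, hk] at h2
    exact Nat.eq_of_mul_eq_mul_right (Nat.pos_of_ne_zero Subgroup.index_ne_zero_of_finite) h2

theorem exists_ext_sub (hθ : θ ∈ principalBlock M N) (hS : Sy p N S) {R : Subgroup G}
    (hR : N ≤ R) (hc : ∀ g ∈ R, Cov N S g) (hidx : ¬ p ∣ (N.subgroupOf R).index) :
    ∃ η : R → ℂ, IsCharacter R η ∧ ∀ n : N, η ⟨n, hR n.2⟩ = θ.1 n := by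
  obtain ⟨η, h, -⟩ := exists_ext (S := S.subgroupOf R) (infl_mem_principalBlock
    (f := (Subgroup.subgroupOfEquivOfLe hR).toMonoidHom) (MulEquiv.surjective _) hθ)
    ⟨Subgroup.comap_mono hS.le, by rw [Subgroup.relIndex_subgroupOf hR]; exact hS.idx⟩
    (fun g => by
      obtain ⟨c, h1, h2⟩ := hc g g.2
      have h3 := QuotientGroup.eq.1 h2
      refine ⟨⟨c, ?_⟩, fun s hs => Subtype.ext (h1 s hs), QuotientGroup.eq.2 h3⟩
      simpa using mul_mem g.2 (inv_mem (hR h3))) hidx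
  exact ⟨η, h.ch, fun n => h.res ⟨⟨n, hR n.2⟩, n.2⟩⟩

theorem Good.unique (hg : Good M S χ) (hg' : Good M S ψ) (h : Ext χ θ) (h' : Ext ψ θ) {a : ℕ}
    (hc : ∀ g : G, Cov N S (g ^ p ^ a)) (hd : ¬ p ∣ charDegree θ.1) {m : ℕ} (hm : ¬ p ∣ m)
    (h1 : ∀ g, detChar χ g ^ m = 1) (h2 : ∀ g, detChar ψ g ^ m = 1) : ψ = χ := by
  obtain ⟨lam, h3, rfl⟩ := exists_hom_of_res_eq N h.ch h.irr' h'.ch fun n => by rw [h.res, h'.res]
  have hO : ∀ g, (lam g : ℂ) ^ Nat.card G = 1 := fun g => by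
    rw [← Units.val_pow_eq_pow_val, ← map_pow, pow_card_eq_one', map_one, Units.val_one]
  have h4 : ∀ g, lam g = 1 := fun g => by
    obtain ⟨c, hc, hc'⟩ := hc g
    have h5 := hg' c hc
    have h6 : lam (g ^ p ^ a) = lam c := by
      rw [← mul_inv_cancel_left c (g ^ _), map_mul, h3 _ (QuotientGroup.eq.1 hc'), mul_one]
    have hO' := fun g => mem_O_of_pow_eq_one (M := M) Nat.card_pos.ne' (hO g)
    simp only [map_one, Units.val_one, one_mul] at h5
    rw [mul_div_assoc, red_mul (hO' _) (mem_O_of_red_ne_zero (by simp [hg c hc])), hg c hc,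
      mul_one, ← h6, map_pow, Units.val_pow_eq_pow_val, red_pow (hO' _), ← mul_one (p ^ a),
      ExpChar.pow_prime_pow_mul_eq_one_iff, pow_one] at h5
    have h7 := h2 g
    rw [detChar_hom_mul h.ch lam (d := charDegree θ.1) (by
      rw [deg_cast_irr, ← h.res]; rfl), mul_pow, h1, mul_one, ← pow_mul] at h7
    exact Units.ext (eq_one_of_red_eq_one (fun h8 => (hp.out.dvd_mul.1 h8).elim hd hm) h7 h5)
  simp [h4]

theorem Good.exists_det (hg : Good M S χ) (h : Ext χ θ) (hd : ¬ p ∣ charDegree θ.1)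
    (ho : ¬ p ∣ detOrder θ.1) : ∃ ψ, Ext ψ θ ∧ Good M S ψ ∧
      ∃ m, ¬ p ∣ m ∧ ∀ g, detChar ψ g ^ m = 1 := by
  obtain ⟨v, m, hm, hvm⟩ := Nat.exists_eq_pow_mul_and_not_dvd (Nat.card_pos (α := G)).ne' p
    hp.out.ne_one
  have hm' : ¬ p ∣ m * detOrder θ.1 := fun h8 => (hp.out.dvd_mul.1 h8).elim hm ho
  have hcop : (m * detOrder θ.1 * charDegree θ.1).Coprime (p ^ v) := Nat.Coprime.pow_right _
    (hp.out.coprime_iff_not_dvd.2 fun h8 => (hp.out.dvd_mul.1 h8).elim hm' hd).symm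
  obtain ⟨t, ht⟩ : ∃ t, p ^ v ∣ m * detOrder θ.1 * t * charDegree θ.1 + 1 := by
    obtain ⟨t, -, ht⟩ := Nat.exists_mul_mod_eq_of_coprime (p ^ v - 1) hcop (pow_pos hp.out.pos v).ne'
    refine ⟨t, (Nat.modEq_zero_iff_dvd).1 ?_⟩
    rw [mul_right_comm]
    have := (show Nat.ModEq (p ^ v) _ _ from ht).add_right 1
    rw [Nat.sub_add_cancel (pow_pos hp.out.pos v)] at this
    exact this.trans (Nat.modEq_zero_iff_dvd.2 dvd_rfl)
  refine ⟨_, h.mul_hom (lam := detHom h.ch ^ (m * detOrder θ.1 * t)) fun n hn => Units.ext ?_,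
    fun c hc => ?_, m, hm, fun g => ?_⟩
  · have := congrFun (pow_orderOf_eq_one (detChar θ.1)) ⟨n, hn⟩
    rw [MonoidHom.pow_apply, Units.val_pow_eq_pow_val, coe_detHom, ← detChar_res h.ch N ⟨n, hn⟩,
      funext h.res, mul_comm m, mul_assoc, pow_mul]
    exact (congrArg (· ^ (m * t)) this).trans (one_pow _)
  · have h1 : ((detHom h.ch ^ (m * detOrder θ.1 * t)) c : ℂ) ^ p ^ v = 1 := by
      rw [MonoidHom.pow_apply, Units.val_pow_eq_pow_val, coe_detHom, ← pow_mul,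
        show m * detOrder θ.1 * t * p ^ v = Nat.card G * (detOrder θ.1 * t) by rw [hvm]; ring,
        pow_mul, detChar_pow_card h.ch, one_pow]
    simp only [map_one, Units.val_one, one_mul]
    rw [mul_div_assoc, red_mul (mem_O_of_pow_eq_one (pow_pos hp.out.pos v).ne' h1)
      (mem_O_of_red_ne_zero (by simp [hg c hc])), hg c hc, red_eq_one_of_pow_p_pow h1, mul_one]
  · obtain ⟨u, hu⟩ := ht
    rw [detChar_hom_mul h.ch _ (d := charDegree θ.1) (by rw [deg_cast_irr, ← h.res]; rfl),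
      MonoidHom.pow_apply, Units.val_pow_eq_pow_val, coe_detHom, ← pow_mul, ← pow_succ, hu,
      ← pow_mul, mul_right_comm, ← hvm, pow_mul, detChar_pow_card h.ch, one_pow]

theorem normal_sup (hfr : ∀ g : G, ∃ m ∈ Subgroup.normalizer (S : Set G), (m : G ⧸ N) = g) :
    (N ⊔ (𝐂 S)).Normal := ⟨fun k hk g => by
  obtain ⟨c, hc, hc'⟩ := cov_iff.1 hk
  obtain ⟨t, ht, ht'⟩ := hfr g
  exact cov_iff.2 ⟨t * c * t⁻¹, (Subgroup.mem_normalizer_iff.1
    (normalizer_le_normalizer_centralizer S ht) _).1 hc, by simp [ht', hc']⟩⟩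

theorem exists_rational (hodd : p ≠ 2) (hθ : θ ∈ principalBlock M N) (hS : Sy p N S)
    (hfr : ∀ g : G, ∃ m ∈ Subgroup.normalizer (S : Set G), (m : G ⧸ N) = g) {a : ℕ}
    (ha : (N ⊔ (𝐂 S)).index = p ^ a) (hinv : ∀ g, conjN N g θ.1 = θ.1)
    (hd : ¬ p ∣ charDegree θ.1) {m : ℕ} (hm : ¬ p ∣ m)
    (hrat : ∀ g, θ.1 g ∈ IntermediateField.adjoin ℚ {Complex.exp (2 * Real.pi * Complex.I / m)}) :
    ∃ χ : IrrCharacter G, χ ∈ principalBlock M G ∧ (∀ n : N, χ.1 n = θ.1 n) ∧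
      ∀ g, χ.1 g ∈ IntermediateField.adjoin ℚ {Complex.exp (2 * Real.pi * Complex.I / m)} := by
  haveI := normal_sup hfr
  have ho := not_dvd_detOrder hodd θ.2.isCharacter hm hrat
  obtain ⟨ψ, h1, h2⟩ := exists_extension_of_sylow N θ.2 hinv fun q hq => by
    haveI := Fact.mk hq
    obtain ⟨R, hR, h3, k, hk⟩ := exists_sylow_over N q
    refine ⟨R, hR, ?_⟩
    by_cases hqp : q = p
    · subst hqp
      obtain ⟨η, ⟨h4, h5, -⟩, -⟩ := exists_extension_of_coprime (N.subgroupOf R)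
        (isIrr_subOf hR θ.2) (fun g => funext fun n => congrFun (hinv g) ⟨_, n.2⟩)
        (d := charDegree θ.1) (deg_cast_irr θ).symm (by
          rw [hk]
          refine Nat.Coprime.pow_left _ (hq.coprime_iff_not_dvd.2 fun h4 =>
            (hq.dvd_mul.1 h4).elim (fun h5 => ho (h5.trans ?_)) hd)
          refine orderOf_dvd_of_pow_eq_one (funext fun n => ?_)
          have := detChar_comp θ.2.isCharacter (Subgroup.subgroupOfEquivOfLe hR).toMonoidHom n
          exact (congrArg (· ^ _) this).trans (congrFun (pow_orderOf_eq_one (detChar θ.1)) _))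
      exact ⟨η, h3, h4.isCharacter, fun n => h5 ⟨⟨n, hR n.2⟩, n.2⟩⟩
    · have hcop : (q ^ k).Coprime (p ^ a) :=
        Nat.Coprime.pow _ _ ((Nat.coprime_primes hq hp.out).2 hqp)
      obtain ⟨η, h4⟩ := exists_ext_sub hθ hS hR (fun g hg => cov_iff.1 (by
        have h4 : g ^ q ^ k ∈ N := by
          rw [← hk]; exact (N.subgroupOf R).pow_index_mem ⟨g, hg⟩
        rw [← QuotientGroup.eq_one_iff, ← orderOf_eq_one_iff]
        refine Nat.eq_one_of_dvd_coprimes hcop (orderOf_dvd_of_pow_eq_one ?_)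
          (ha ▸ orderOf_dvd_natCard _)
        rw [← QuotientGroup.mk_pow, QuotientGroup.eq_one_iff]
        exact Subgroup.mem_sup_left h4)) (by
          rw [hk]; exact fun h4 => hqp ((Nat.prime_dvd_prime_iff_eq hp.out hq).1
            (hp.out.dvd_of_dvd_pow h4)).symm)
      exact ⟨η, h3, h4⟩
  have h3 : Ext ψ θ := ⟨h1.isCharacter, h2⟩
  obtain ⟨lam, h4, h5⟩ := h3.exists_twist hθ hS (fun k => cov_iff) ha hfr
  obtain ⟨χ, h6, h7, n, hn, h8⟩ := h5.exists_det (h3.mul_hom h4) hd ho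
  refine ⟨⟨χ, h6.irr⟩, h7.mem h6 hθ hS fun g hg => cov_iff.1 (mem_of_regular_of_index ha hg),
    h6.res, fun g => mem_of_fixed _ (h6.ch.isIntegral g) fun σ hσ => ?_⟩
  obtain ⟨k, -, hk⟩ := exists_pow_apply_eq_map (G := G) (σ : ℂ →+* ℂ)
  refine congrFun (h7.unique (ψ := fun g => σ (χ g)) (fun c hc => ?_) h6
    ⟨h6.ch.map_ringHom (σ : ℂ →+* ℂ), fun n => by rw [h6.res, hσ _ (hrat n)]⟩ (a := a)
    (fun g => cov_iff.1 (ha ▸ Subgroup.pow_index_mem _ g)) hd hn h8 fun g => ?_) g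
  · have := hk χ h6.ch.isGeneralizedCharacter
    simp only [RingHom.coe_coe] at this
    simp only [← this, one_pow]
    exact h7 _ (pow_mem hc k)
  · have := detChar_gal h6.ch (σ : ℂ →+* ℂ) g
    simp only [RingHom.coe_coe] at this
    rw [this, ← map_pow, h8, map_one]

end Cfsg.Agent.Dade
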