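import Cfsg.Agent.Block.Exc
import Cfsg.Agent.BMod.Sub2

/-!
Functions on the non-identity elements of an abelian `p`-group that extend to generalized characters
(`GenP`): quotients (`genP_div`), gluing (`exists_glue`) and symmetrization (`exists_symm`).
-/

set_option autoImplicit false

namespace Cfsg.Agent.Block

open Cfsg Cfsg.Agent.BMod Cfsg.Agent.Char Polynomial Subgroup
open scoped ComplexConjugate

variable {A : Type*} [Group A] [Fintype A] {p : ℕ} [hp : Fact p.Prime] {M : Ideal AlgInt} [PMod p M]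

/-- `f` agrees with a generalized character off the identity. -/
def GenP (f : A → ℂ) : Prop := ∃ θ, IsGeneralizedCharacter A θ ∧ ∀ u ≠ 1, f u = θ u

/-- A unit of absolute value one. -/
def Un (z : ℂ) : Prop := IsIntegral ℤ z ∧ z * conj z = 1

lemma Un.mul {z w : ℂ} (h : Un z) (h' : Un w) : Un (z * w) :=
  ⟨h.1.mul h'.1, by rw [map_mul, mul_mul_mul_comm, h.2, h'.2, one_mul]⟩

lemma Un.inv {z : ℂ} (h : Un z) : Un z⁻¹ := by
  rw [← eq_inv_of_mul_eq_one_right h.2]
  exact ⟨isIntegral_conj h.1, by rw [Complex.conj_conj, mul_comm, h.2]⟩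

lemma Un.prod {ι : Type*} (s : Finset ι) {f : ι → ℂ} (h : ∀ i ∈ s, Un (f i)) : Un (∏ i ∈ s, f i) :=
  Finset.prod_induction f Un (fun _ _ => Un.mul) ⟨isIntegral_one, by simp⟩ h

omit hp in
lemma Un.red_ne {z : ℂ} (h : Un z) : red M z ≠ 0 := fun e => by
  have := congrArg (red M) h.2
  rw [red_mul (mem_O_of_isIntegral h.1) (mem_O_of_isIntegral (isIntegral_conj h.1)), e] at this
  simp at this

lemma isGen_prod {G ι : Type*} [Group G] (s : Finset ι) {f : ι → G → ℂ}
    (h : ∀ i ∈ s, IsGeneralizedCharacter G (f i)) : IsGeneralizedCharacter G (∏ i ∈ s, f i) :=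
  Finset.prod_induction f _ (fun _ _ => IsGeneralizedCharacter.mul) isGeneralizedCharacter_one h

lemma isGen_pow {G : Type*} [Group G] {f : G → ℂ} (h : IsGeneralizedCharacter G f) (n : ℕ) :
    IsGeneralizedCharacter G (f ^ n) := by
  simpa using isGen_prod (Finset.range n) fun _ _ => h

lemma prod_odd_eq_prod_even {ι β : Type*} [DecidableEq ι] [CommMonoid β] {s : Finset ι} {x : ι} (hx : x ∈ s)
    (f : Finset ι → β) : ∏ J ∈ s.powerset with Odd J.card, f (insert x J) =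
      ∏ J ∈ s.powerset with Even J.card, f (insert x J) := by
  refine Finset.prod_nbij' (fun J => if x ∈ J then J.erase x else insert x J)
    (fun J => if x ∈ J then J.erase x else insert x J) ?_ ?_ ?_ ?_ ?_ <;> intro J hJ <;>
    simp only [Finset.mem_filter, Finset.mem_powerset] at hJ ⊢ <;> by_cases h : x ∈ J <;>
    simp [h, Finset.insert_subset_iff, hx, hJ, (Finset.erase_subset _ _).trans hJ.1, Nat.even_add_one,
      Nat.odd_add_one, Nat.even_sub (Finset.card_pos.2 ⟨x, _⟩), Nat.odd_sub (Finset.card_pos.2 ⟨x, _⟩)]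

lemma inner_div_mem_O {α β γ : A → ℂ} (hα : IsGeneralizedCharacter A α) (hβ : IsGeneralizedCharacter A β)
    (hγ : IsGeneralizedCharacter A γ) (h : ∀ u, red M (β u) ≠ 0) : classInner (α / β) γ ∈ O M := by
  set q : (O M)[X] := ∏ u, (X - C ⟨β u, gen_mem_O hβ u⟩) with hq
  have h0 : red M (q.coeff 0 : ℂ) ≠ 0 := by
    rw [red_coe, hq, coeff_zero_prod, map_prod]
    exact Finset.prod_ne_zero_iff.2 fun u _ => by simpa [← red_coe, red_neg] using h u
  have h1 : α / β = ∑ j ∈ Finset.range (q.divX.natDegree + 1),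
      (-(q.coeff 0 : ℂ)⁻¹ * q.divX.coeff j) • (α * β ^ j) := funext fun u => by
    have h2 : aeval (β u) q = 0 := by
      rw [hq, map_prod]; exact Finset.prod_eq_zero (Finset.mem_univ u) (by rw [map_sub, aeval_X, aeval_C]; exact sub_self _)
    rw [← q.X_mul_divX_add, map_add, map_mul, aeval_X, aeval_C, aeval_eq_sum_range,
      show algebraMap (O M) ℂ (q.coeff 0) = q.coeff 0 from rfl] at h2
    have h3 := ne_zero_of_red_ne_zero h0
    have h4 := ne_zero_of_red_ne_zero (h u)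
    simp only [Finset.sum_apply, Pi.smul_apply, Pi.mul_apply, Pi.pow_apply, smul_eq_mul, mul_assoc,
      mul_left_comm _ (α u), ← Finset.mul_sum, Pi.div_apply]
    field_simp
    linear_combination (exp := 1) α u * h2
  rw [h1, classInner_sum_left]
  refine sum_mem fun j _ => ?_
  obtain ⟨n, hn⟩ := (hα.mul (isGen_pow hβ j)).exists_int_classInner hγ
  rw [classInner_smul_left, hn]
  exact mul_mem (mul_mem (neg_mem (inv_mem_O h0)) (Subtype.prop _)) (intCast_mem _ n)

variable (hA : ∀ a b : A, a * b = b * a)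
include hA

omit hp in
lemma fourier (θ : A → ℂ) (u : A) :
    θ u = ∑ lam : A →* ℂˣ, classInner θ (fun u => lam u) * (lam u : ℂ) := by
  classical
  have hN : (Nat.card A : ℂ) ≠ 0 := Nat.cast_ne_zero.2 Nat.card_pos.ne'
  simp only [Char.classInner_def, Finset.mul_sum, Finset.sum_mul]
  rw [Finset.sum_comm, Finset.sum_eq_single u]
  · simp only [mul_assoc, Complex.conj_mul', CharDeep.norm_hom_apply]
    simp only [Complex.ofReal_one, one_pow, mul_one, Finset.sum_const, Finset.card_univ,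
      ← Nat.card_eq_fintype_card, card_hom hA, nsmul_eq_mul]
    field_simp
  · intro v _ hv
    have := sum_dual_apply hA (u := v⁻¹ * u) (by rwa [Ne, inv_mul_eq_one])
    simp only [mul_assoc, ← Finset.mul_sum, conj_hom_apply, MonoidHom.inv_apply, ← map_inv,
      ← Units.val_mul, ← map_mul, this, mul_zero]
  · simp

lemma genP_div (hP : IsPGroup p A) {α β f : A → ℂ} (hα : IsGeneralizedCharacter A α)
    (hβ : IsGeneralizedCharacter A β) (h : red M (β 1) ≠ 0) (hf : ∀ u ≠ 1, f u = α u / β u)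
    (hi : ∀ u ≠ 1, IsIntegral ℤ (Nat.card A * f u)) : GenP f := by
  classical
  obtain ⟨k, hk⟩ := hP.exists_card_eq
  have h0 : ∀ u, red M (β u) ≠ 0 := fun u => (red_gen_pElt hβ (IsPGroup.iff_orderOf.1 hP u)).trans_ne h
  have h1 : ∀ lam : A →* ℂˣ, ∃ n : ℤ, classInner (α / β) ((fun u => (lam u : ℂ)) - fun _ => 1) = n := fun lam => by
    have hγ := (isCharacter_hom lam).isGeneralizedCharacter.sub isGeneralizedCharacter_one
    have h2 := card_mul_classInner (α / β) ((fun u => (lam u : ℂ)) - fun _ => 1)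
    obtain ⟨n, hn⟩ := exists_int_of_fixed (x := Nat.card A * (Nat.card A * classInner (α / β)
      ((fun u => (lam u : ℂ)) - fun _ => 1))) (by
        rw [h2, Finset.mul_sum]
        refine IsIntegral.sum _ fun u _ => ?_
        by_cases hu : u = 1
        · simpa [hu] using isIntegral_zero
        rw [← mul_assoc, Pi.div_apply, ← hf u hu]
        exact (hi u hu).mul (hγ.conj.isIntegral u)) fun σ => by
      obtain ⟨m, hm, e⟩ := exists_pow_apply_eq_map (G := A) (σ : ℂ →+* ℂ)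
      rw [h2, map_mul, map_natCast, map_sum]
      refine congrArg _ (Fintype.sum_equiv (powCoprime hm.symm) _ _ fun u => ?_)
      rw [map_mul, Pi.div_apply, map_div₀]
      exact (congrArg₂ (· * ·) (congrArg₂ (· / ·) (e _ hα u) (e _ hβ u)) (e _ hγ.conj u)).symm
    have h3 : classInner (α / β) ((fun u => (lam u : ℂ)) - fun _ => 1) = n / p ^ (k + k) := by
      rw [← hn, hk, pow_add]; push_cast; field_simp [natCast_p_ne_zero M]
    obtain ⟨r, rfl⟩ := int_pow_dvd_of_mem_O (h3 ▸ inner_div_mem_O (M := M) hα hβ hγ h0)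
    exact ⟨r, by rw [h3]; push_cast; field_simp [natCast_p_ne_zero M]⟩
  choose a ha using h1
  refine ⟨∑ lam, a lam • fun u => (lam u : ℂ), isGeneralizedCharacter_sum _ _ fun lam _ =>
    (isCharacter_hom lam).isGeneralizedCharacter.zsmul _, fun u hu => ?_⟩
  simp only [Finset.sum_apply, Pi.smul_apply]
  simp only [zsmul_eq_mul, ← ha, classInner_sub_right, sub_mul,
    Finset.sum_sub_distrib, ← Finset.mul_sum, sum_dual_apply hA hu, ← fourier hA]
  simp [hf u hu]

include M in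
theorem exists_glue (hP : IsPGroup p A) (W : Subgroup A → A → ℂ) (m : Subgroup A → ℕ)
    (hW : ∀ S ≠ ⊥, IsGeneralizedCharacter A (W S))
    (h : ∀ S ≠ ⊥, ∀ y, ∃ δ, Un δ ∧ W S y = δ * m (S ⊔ zpowers y)) (h1 : ¬ p ∣ m ⊤) :
    ∃ ε : A → ℂ, (∀ x ≠ 1, Un (ε x)) ∧ ∀ θ d : A → ℂ, IsGeneralizedCharacter A θ →
      (∀ x ≠ 1, IsIntegral ℤ (d x) ∧ θ x = m (zpowers x) * d x) → GenP fun x => ε x * d x := by
  classical
  have h2 : ∀ S ≠ ⊥, ∀ y, red M (W S y) ≠ 0 ↔ red M (m (S ⊔ zpowers y)) ≠ 0 := fun S hS y => by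
    obtain ⟨δ, hδ, e⟩ := h S hS y
    rw [e, red_mul (mem_O_of_isIntegral hδ.1) (natCast_mem _ _), mul_ne_zero_iff, and_iff_right hδ.red_ne]
  have h3 : ∀ S ≠ ⊥, red M (W S 1) ≠ 0 := fun S => by
    induction S using WellFoundedGT.induction with | _ S ih => ?_
    intro hS
    by_cases e : S = ⊤
    · rw [h2 S hS, e, top_sup_eq]; exact red_natCast_ne_zero h1
    obtain ⟨y, -, hy⟩ := SetLike.exists_of_lt (lt_top_iff_ne_top.2 e)
    have h4 : S < S ⊔ zpowers y := left_lt_sup.2 (by simpa using hy)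
    have := (h2 _ h4.ne_bot 1).1 (ih _ h4 h4.ne_bot)
    rw [zpowers_one_eq_bot, sup_bot_eq, ← h2 S hS] at this
    rwa [← red_gen_pElt (hW S hS) (IsPGroup.iff_orderOf.1 hP y)]
  set s : Finset A := Finset.univ.erase 1
  have h4 : ∀ J ∈ s.powerset, J ≠ ∅ → closure (J : Set A) ≠ ⊥ := fun J hJ h0 e => by
    obtain ⟨x, hx⟩ := Finset.nonempty_iff_ne_empty.2 h0
    exact Finset.ne_of_mem_erase (Finset.mem_powerset.1 hJ hx) (mem_bot.1 (e ▸ subset_closure hx))
  have h5 : ∀ J ∈ s.powerset.filter (Odd ·.card), closure (J : Set A) ≠ ⊥ := fun J hJ =>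
    h4 J (Finset.mem_filter.1 hJ).1 (by rintro rfl; simp at hJ)
  have h6 : ∀ J ∈ (s.powerset.filter (Even ·.card)).erase ∅, closure (J : Set A) ≠ ⊥ := fun J hJ =>
    h4 J (Finset.mem_filter.1 (Finset.mem_of_mem_erase hJ)).1 (Finset.ne_of_mem_erase hJ)
  have hα := isGen_prod _ fun J hJ => hW _ (h5 J hJ)
  have hβ := isGen_prod _ fun J hJ => hW _ (h6 J hJ)
  choose! δ hδ e using h
  have h7 : ∀ x ≠ 1, Un ((∏ J ∈ (s.powerset.filter (Even ·.card)).erase ∅, W (closure J)) x * m (zpowers x) /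
      (∏ J ∈ s.powerset.filter (Odd ·.card), W (closure J)) x) := fun x hx => by
    have h7 := prod_odd_eq_prod_even (s := s) (x := x) (by simpa [s]) fun J => (m (closure J) : ℂ)
    simp only [Finset.coe_insert, Set.insert_eq, Subgroup.closure_union, ← zpowers_eq_closure, sup_comm (zpowers x)] at h7
    rw [← Finset.mul_prod_erase _ _ (show ∅ ∈ s.powerset.filter (Even ·.card) by simp),
      Finset.coe_empty, Subgroup.closure_empty, bot_sup_eq] at h7
    have h8 : ∏ J ∈ s.powerset.filter (Odd ·.card), (m (closure J ⊔ zpowers x) : ℂ) ≠ 0 :=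
      Finset.prod_ne_zero_iff.2 fun J hJ => ne_zero_of_red_ne_zero ((h2 _ (h5 J hJ) x).1
        ((red_gen_pElt (hW _ (h5 J hJ)) (IsPGroup.iff_orderOf.1 hP x)).trans_ne (h3 _ (h5 J hJ))))
    rw [Finset.prod_apply, Finset.prod_apply, Finset.prod_congr rfl fun J hJ => e _ (h5 J hJ) x,
      Finset.prod_congr rfl fun J hJ => e _ (h6 J hJ) x, Finset.prod_mul_distrib, Finset.prod_mul_distrib,
      mul_assoc, mul_comm _ (m _ : ℂ), ← h7, mul_div_mul_right _ _ h8, div_eq_mul_inv]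
    exact (Un.prod _ fun J hJ => hδ _ (h6 J hJ) x).mul (Un.prod _ fun J hJ => hδ _ (h5 J hJ) x).inv
  refine ⟨_, h7, fun θ d hθ hd => genP_div (M := M) hA hP (hβ.mul hθ) hα ?_ (fun u hu => ?_) fun u hu =>
    (isIntegral_natCast _).mul ((h7 u hu).1.mul (hd u hu).1)⟩
  · rw [Finset.prod_apply, red_prod _ fun J hJ => gen_mem_O (hW _ (h5 J hJ)) _]
    exact Finset.prod_ne_zero_iff.2 fun J hJ => h3 _ (h5 J hJ)
  · rw [Pi.mul_apply, (hd u hu).2]; ring

omit hp hA in
lemma GenP.pow_eq_one {f : A → ℂ} (h : GenP f) (h1 : ∀ u ≠ 1, ‖f u‖ = 1) {u : A} (hu : u ≠ 1) :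
    ∃ n : ℕ, 0 < n ∧ f u ^ n = 1 := by
  obtain ⟨θ, hθ, e⟩ := h
  refine exists_pow_eq_one_of_forall_norm_le (norm_ne_zero_iff.1 (by simp [h1 u hu]))
    (e u hu ▸ hθ.isIntegral u) fun σ => ?_
  obtain ⟨m, hm, e'⟩ := exists_pow_apply_eq_map (G := A) (σ : ℂ →+* ℂ)
  have : u ^ m ≠ 1 := fun h => hu ((powCoprime hm.symm).injective (h.trans (one_pow m).symm))
  exact ((congrArg norm ((congrArg σ (e u hu)).trans ((e' θ hθ u).symm.trans (e _ this).symm))).trans
    (h1 _ this)).le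

omit hA in
lemma pow_pow_eq_one_of_red {z : ℂ} {n : ℕ} (hn : 0 < n) (h : z ^ n = 1) (h1 : red M z = 1) :
    ∃ k, z ^ p ^ k = 1 := by
  obtain ⟨k, l, hl, rfl⟩ := Nat.exists_eq_pow_mul_and_not_dvd hn.ne' p hp.out.ne_one
  refine ⟨k, by_contra fun h2 => red_natCast_ne_zero (M := M) hl ?_⟩
  have hz := mem_O_of_pow_eq_one (M := M) hn.ne' h
  have := congrArg (red M) (geom_sum_eq h2 l)
  rw [← pow_mul, h, sub_self, zero_div, red_sum _ fun _ _ => pow_mem (pow_mem hz _) _] at this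
  simpa [red_pow (pow_mem hz _), red_pow hz, h1] using this

include M in
theorem exists_symm (hP : IsPGroup p A) {E : Subgroup (MulAut A)} (hE : ¬ p ∣ Nat.card E) {I : Type*}
    [Fintype I] {D : I → A → ℂ} (hD : ∀ i, GenP (D i))
    (h1 : ∀ u ≠ 1, ∑ i, D i u * conj (D i u) = Nat.card A)
    (h2 : ∀ g ∈ E, ∀ u ≠ 1, ∃ c, ∀ i, D i (g u) = c * D i u) {i₀ : I} (h3 : ∀ u ≠ 1, red M (D i₀ u) ≠ 0) :
    ∃ ε : A → ℂ, (∀ u ≠ 1, ε u * conj (ε u) = 1) ∧ (∀ i, GenP fun u => ε u * D i u) ∧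
      ∀ g ∈ E, ∀ u ≠ 1, ∀ i, ε (g u) * D i (g u) = ε u * D i u := by
  classical
  have := Fintype.ofFinite E
  cases subsingleton_or_nontrivial A
  · exact ⟨1, by simp, by simpa, fun g _ u hu => (hu (Subsingleton.elim _ _)).elim⟩
  obtain ⟨u₀, hu₀⟩ := exists_ne (1 : A)
  choose θ hθ e using hD
  have hne : ∀ (g : E) u, u ≠ 1 → g.1 u ≠ 1 := fun g u hu => by simpa
  have hr := fun i u => red_gen_pElt (M := M) (hθ i) (IsPGroup.iff_orderOf.1 hP u)
  have h0 : red M (θ i₀ 1) ≠ 0 := by rw [← hr i₀ u₀, ← e i₀ u₀ hu₀]; exact h3 u₀ hu₀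
  set ν : E → A → ℂ := fun g u => D i₀ (g.1 u) / D i₀ u with hν
  have h4 : ∀ (g : E) u, u ≠ 1 → ∀ i, D i (g.1 u) = ν g u * D i u := fun g u hu i => by
    obtain ⟨c, hc⟩ := h2 g.1 g.2 u hu
    simp only [hν, hc, mul_div_cancel_right₀ _ (ne_zero_of_red_ne_zero (h3 u hu))]
  have hN : (Nat.card A : ℂ) ≠ 0 := Nat.cast_ne_zero.2 Nat.card_pos.ne'
  have h5 : ∀ (g : E) u, u ≠ 1 → ν g u * conj (ν g u) = 1 := fun g u hu => by
    have := h1 _ (hne g u hu)
    rw [Finset.sum_congr rfl fun i _ => by rw [h4 g u hu, map_mul, mul_mul_mul_comm], ← Finset.mul_sum,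
      h1 u hu] at this
    exact (mul_eq_right₀ hN).1 this
  have h6 : ∀ g, GenP (ν g) := fun g => genP_div (M := M) hA hP ((hθ i₀).comp g.1.toMonoidHom) (hθ i₀) h0
    (fun u hu => by rw [← e _ u hu]; exact congrArg (· / _) (e _ _ (hne g u hu))) fun u hu => by
      rw [← h1 u hu, Finset.sum_mul]
      refine IsIntegral.sum _ fun i _ => ?_
      rw [mul_right_comm, mul_comm (D i u), ← h4 g u hu, e _ _ hu, e _ _ (hne g u hu)]
      exact ((hθ i).isIntegral _).mul (isIntegral_conj ((hθ i).isIntegral _))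
  have h7 : ∀ x : E × A, ∃ k, x.2 ≠ 1 → ν x.1 x.2 ^ p ^ k = 1 := fun ⟨g, u⟩ => by
    by_cases hu : u = 1
    · exact ⟨0, fun h => (h hu).elim⟩
    obtain ⟨n, hn, h⟩ := (h6 g).pow_eq_one (fun u hu => by
      have := congrArg norm (h5 g u hu)
      rw [norm_mul, Complex.norm_conj, norm_one] at this
      exact (mul_self_eq_one_iff.1 this).resolve_right (by linarith [norm_nonneg (ν g u)])) hu
    refine (pow_pow_eq_one_of_red (M := M) hn h ?_).imp fun _ h _ => h
    rw [hν, red_div (mem_O_of_red_ne_zero (h3 _ (hne g u hu))) (h3 u hu), e _ _ hu, e _ _ (hne g u hu),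
      hr, hr i₀ u, div_self h0]
  choose k hk using h7
  obtain ⟨l, hl⟩ := Nat.exists_mul_mod_eq_one_of_coprime (((Nat.Prime.coprime_iff_not_dvd hp.out).2
    hE).symm.pow_right (∑ x, k x + 1)) (Nat.one_lt_pow (by omega) hp.out.one_lt)
  choose η hη e' using h6
  refine ⟨fun u => ∏ g, ν g u ^ l, fun u hu => ?_, fun i => ⟨(∏ g, η g ^ l) * θ i, (isGen_prod _
    fun g _ => isGen_pow (hη g) l).mul (hθ i), fun u hu => ?_⟩, fun g hg u hu i => ?_⟩
  · simp only [map_prod, map_pow, ← Finset.prod_mul_distrib, ← mul_pow, h5 _ u hu, one_pow,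
      Finset.prod_const_one]
  · simp [e' _ u hu, e i u hu]
  have h8 : ∀ h : E, ν (h * ⟨g, hg⟩) u = ν h (g u) * ν ⟨g, hg⟩ u := fun h => by
    simp only [hν]
    rw [div_mul_div_cancel₀ (ne_zero_of_red_ne_zero (h3 _ (hne ⟨g, hg⟩ u hu)))]; rfl
  have h9 : ν ⟨g, hg⟩ u ^ (Nat.card E * l) = ν ⟨g, hg⟩ u := by
    obtain ⟨j, hj⟩ := Nat.exists_eq_add_of_le ((Finset.single_le_sum (f := k) (fun _ _ => Nat.zero_le _)
      (Finset.mem_univ (⟨g, hg⟩, u))).trans (Nat.le_succ _))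
    rw [pow_eq_pow_mod _ (show ν ⟨g, hg⟩ u ^ p ^ (∑ x, k x + 1) = 1 by
      rw [show _ + 1 = _ from hj, pow_add, pow_mul, hk (⟨g, hg⟩, u) hu, one_pow]), hl.2, pow_one]
  beta_reduce
  rw [← Equiv.prod_comp (Equiv.mulRight (⟨g, hg⟩ : E)) fun h => ν h u ^ l, h4 ⟨g, hg⟩ u hu]
  simp only [Equiv.coe_mulRight, h8, mul_pow, Finset.prod_mul_distrib, Finset.prod_const, Finset.card_univ,
    ← Nat.card_eq_fintype_card, ← pow_mul, mul_comm l, h9, mul_assoc]

end Cfsg.Agent.Block
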