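import Cfsg.Agent.Block.Q16
import Cfsg.Agent.Invol.QD

/-!
Two-groups of maximal class (`MC`): dihedral, semidihedral and generalized quaternion groups.
-/

set_option autoImplicit false
set_option linter.unusedSectionVars false

namespace Cfsg.Agent.Tame

open Subgroup Cfsg.Agent.Block Cfsg.Agent.BMod

variable {G : Type*} [Group G] [Finite G] {D A E R : Subgroup G} {x v z y u r d g : G} {m : ℕ}

local notation "𝐂" Q:max => Subgroup.centralizer ((Q : Subgroup G) : Set G)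
local notation "𝐍" Q:max => Subgroup.normalizer ((Q : Subgroup G) : Set G)
local notation "𝐙" => Subgroup.zpowers

theorem odd_cent {a c : G} {n : ℕ} (ho : ¬ 2 ∣ orderOf g) (hc : c ^ 2 ^ n = 1) (h1 : g * c * g⁻¹ = c)
    (h : g * a * g⁻¹ = a * c) : c = 1 := by
  have key (k : ℕ) : g ^ k * a * (g ^ k)⁻¹ = a * c ^ k := by
    induction k with
    | zero => simp
    | succ k ih =>
      calc g ^ (k + 1) * a * (g ^ (k + 1))⁻¹ = g * (g ^ k * a * (g ^ k)⁻¹) * g⁻¹ := by group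
        _ = g * a * g⁻¹ * (g * c * g⁻¹) ^ k := by rw [ih, conj_pow]; group
        _ = _ := by rw [h, h1]; group
  have := key (orderOf g)
  rw [pow_orderOf_eq_one] at this
  exact Invol.eq_one_of_zpow_odd hc (k := orderOf g) (by
    exact_mod_cast Nat.not_even_iff_odd.1 (mt even_iff_two_dvd.1 ho)) (by simpa using this.symm)

/-- an element of odd order normalizing a subgroup of a 2-group with cyclic subgroup of index 2 -/
theorem cent_of_odd (hE : IsPGroup 2 E) (h : ∀ a ∈ E, a ∉ 𝐙 x → ∀ b ∈ E, b ∉ 𝐙 x → a⁻¹ * b ∈ 𝐙 x)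
    (hR : R ≤ E) (ho : ¬ 2 ∣ orderOf g) (hg : g ∈ 𝐍 R)
    (h1 : ∀ a ∈ R, a ∈ 𝐙 x → g * a * g⁻¹ ∈ 𝐙 x) : g ∈ 𝐂 R := by
  have h2 {a} (ha : a ∈ R) : g * a * g⁻¹ ∈ R := (mem_normalizer_iff.1 hg a).1 ha
  have : IsCyclic ↥(R ⊓ 𝐙 x) := isCyclic_of_le inf_le_right
  have h3 : g ∈ 𝐂 (R ⊓ 𝐙 x) := mem_centralizer_of_isCyclic (hE.to_le (inf_le_left.trans hR))
    (mem_normalizer_fintype fun a ha => ⟨h2 ha.1, h1 a ha.1 ha.2⟩)
    ((Nat.Prime.coprime_iff_not_dvd Nat.prime_two).2 ho).symm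
  have h4 {a} (ha : a ∈ R ⊓ 𝐙 x) : g * a * g⁻¹ = a := by rw [← h3 a ha, mul_inv_cancel_right]
  intro a ha
  by_cases h5 : a ∈ 𝐙 x
  · exact h3 a ⟨ha, h5⟩
  have h6 : g * a * g⁻¹ ∉ 𝐙 x := fun h6 => h5 (by
    have := h4 ⟨h2 ha, h6⟩
    rwa [show g * a * g⁻¹ = a by simpa using this] at h6)
  have h7 := mul_mem (inv_mem ha) (h2 ha)
  obtain ⟨n, hn⟩ := hE ⟨_, hR h7⟩
  have := odd_cent (a := a) ho (congrArg Subtype.val hn) (h4 ⟨h7, h a (hR ha) h5 _ (hR (h2 ha)) h6⟩)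
    (by simp)
  rw [inv_mul_eq_one, eq_mul_inv_iff_mul_eq] at this
  exact this

theorem mem_normalizer_of_conj {s w : G} (h1 : w ∈ 𝐙 s) (h2 : w ∈ 𝐙 (g * s * g⁻¹)) : g ∈ 𝐍 (𝐙 w) := by
  rw [← sc_zpowers', mem_sc] at h2
  refine (inv_mem_iff (x := g)).1 (mem_normalizer_fintype fun a ⟨k, hk⟩ => ?_)
  have := Gen2.mem_zpowers_of_orderOf_dvd h2 h1 (by simpa using (orderOf_conj' g⁻¹ w).dvd)
  rw [← hk, ← conj_zpow, inv_inv]
  exact zpow_mem this k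
where sc_zpowers' {k u : G} : sc k (𝐙 u) = 𝐙 (k * u * k⁻¹) := MonoidHom.map_zpowers _ _

/-- `D` is dihedral, semidihedral or quaternion of order `2 ^ (m + 3)`. -/
structure MC (D : Subgroup G) (x v z : G) (m : ℕ) : Prop where
  ord : orderOf x = 2 ^ (m + 2)
  hv : x ^ 2 ^ m = v
  hz : v * v = z
  mem : x ∈ D
  ex : ∃ y ∈ D, y ∉ 𝐙 x
  idx : ∀ y ∈ D, y ∉ 𝐙 x → ∀ y' ∈ D, y' ∉ 𝐙 x → y⁻¹ * y' ∈ 𝐙 x
  act : ∀ y ∈ D, y ∉ 𝐙 x → y * x * y⁻¹ = x⁻¹ ∨ (m ≠ 0 ∧ y * x * y⁻¹ = x⁻¹ * z)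

namespace MC

variable (h : MC D x v z m)
include h

theorem ord_v : orderOf v = 4 := by
  rw [← h.hv, orderOf_pow' _ (by positivity), h.ord, Nat.gcd_eq_right (pow_dvd_pow _ (by omega)),
    Nat.pow_div (by omega) two_pos]
  simp

theorem ord_z : orderOf z = 2 := by
  rw [← h.hz, ← pow_two, orderOf_pow' _ two_ne_zero, h.ord_v]; rfl

theorem zz : z * z = 1 := Invol.mul_self_of h.ord_z
theorem z_ne : z ≠ 1 := Invol.ne_one_of h.ord_z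
theorem z_inv : z⁻¹ = z := Invol.inv_eq_of h.ord_z
theorem le : 𝐙 x ≤ D := zpowers_le.2 h.mem
theorem v_mem : v ∈ 𝐙 x := h.hv ▸ npow_mem_zpowers _ _
theorem z_mem : z ∈ 𝐙 x := h.hz ▸ mul_mem h.v_mem h.v_mem
theorem v_inv : v⁻¹ = v * z := by
  rw [inv_eq_iff_mul_eq_one, ← mul_assoc, h.hz, h.zz]

omit h in
theorem comm (hu : u ∈ 𝐙 x) (hr : r ∈ 𝐙 x) : u * r = r * u := Gen2.mul_comm_of_isCyclic hu hr

theorem ord_pow (hu : u ∈ 𝐙 x) : ∃ k, orderOf u = 2 ^ k := by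
  obtain ⟨k, -, hk⟩ := (Nat.dvd_prime_pow Nat.prime_two).1 (h.ord ▸ orderOf_dvd_of_mem_zpowers hu)
  exact ⟨k, hk⟩

theorem z_mem_zpowers (hu : u ∈ 𝐙 x) (h1 : u ≠ 1) : z ∈ 𝐙 u := by
  obtain ⟨k, hk⟩ := h.ord_pow hu
  refine Gen2.mem_zpowers_of_orderOf_dvd h.z_mem hu ?_
  rw [h.ord_z, hk]
  exact dvd_pow_self _ fun e => h1 (by simpa [e] using hk)

theorem v_mem_zpowers (hu : u ∈ 𝐙 x) (h1 : u * u ≠ 1) : v ∈ 𝐙 u := by
  obtain ⟨k, hk⟩ := h.ord_pow hu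
  refine Gen2.mem_zpowers_of_orderOf_dvd h.v_mem hu ?_
  rw [h.ord_v, hk]
  refine pow_dvd_pow 2 (show 2 ≤ k from not_lt.1 fun e => h1 ?_)
  rw [← pow_two, ← orderOf_dvd_iff_pow_eq_one, hk]
  exact pow_dvd_pow 2 (show k ≤ 1 by omega)

theorem mem_z : u ∈ 𝐙 z ↔ u = 1 ∨ u = z := by
  refine ⟨fun ⟨k, hk⟩ => ?_, fun e => by rcases e with rfl | rfl <;> simp⟩
  have h2 : z ^ (2 : ℤ) = 1 := by rw [zpow_two, h.zz]
  rcases Int.even_or_odd' k with ⟨j, rfl | rfl⟩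
  · exact .inl (by simpa [zpow_mul, h2] using hk.symm)
  · exact .inr (by simpa [zpow_add, zpow_mul, h2] using hk.symm)

theorem sq_cases (hu : u ∈ 𝐙 x) (h1 : u * u = 1) : u = 1 ∨ u = z :=
  h.mem_z.1 (Gen2.mem_zpowers_of_orderOf_dvd hu h.z_mem (by
    rw [h.ord_z, orderOf_dvd_iff_pow_eq_one, pow_two, h1]))

theorem act' (hy : y ∈ D) (hy' : y ∉ 𝐙 x) (hu : u ∈ 𝐙 x) :
    y * u * y⁻¹ = u⁻¹ ∨ (y * u * y⁻¹ = u⁻¹ * z ∧ u * u * (u * u) ≠ 1) := by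
  obtain ⟨k, rfl⟩ := hu
  rcases h.act y hy hy' with h1 | ⟨h0, h1⟩
  · exact .inl (by rw [← conj_zpow, h1, inv_zpow])
  have hc : Commute x⁻¹ z := comm (inv_mem (mem_zpowers x)) h.z_mem
  have h2 : z ^ (2 : ℤ) = 1 := by rw [zpow_two, h.zz]
  simp only
  rw [← conj_zpow, h1, hc.mul_zpow, inv_zpow]
  rcases Int.even_or_odd' k with ⟨j, rfl | rfl⟩
  · exact .inl (by rw [zpow_mul z, h2, one_zpow, mul_one])
  refine .inr ⟨by rw [zpow_add z, zpow_mul z, h2, one_zpow, one_mul, zpow_one], fun e => ?_⟩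
  have h3 := Invol.eq_one_of_zpow_odd (c := x ^ 4) (n := m + 2) (k := 2 * j + 1) (by
    rw [← pow_mul, mul_comm, pow_mul, ← h.ord, pow_orderOf_eq_one, one_pow]) (odd_two_mul_add_one j)
    (by rw [← e]; group)
  have h4 := orderOf_dvd_of_pow_eq_one h3
  rw [h.ord, show 4 = 2 ^ 2 from rfl, Nat.pow_dvd_pow_iff_le_right one_lt_two] at h4
  omega

theorem conj_v (hy : y ∈ D) (hy' : y ∉ 𝐙 x) : y * v * y⁻¹ = v⁻¹ :=
  (h.act' hy hy' h.v_mem).resolve_right fun e => e.2 (by rw [h.hz, h.zz])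

theorem comm_z (hd : d ∈ D) : d * z = z * d := by
  by_cases h1 : d ∈ 𝐙 x
  · exact comm h1 h.z_mem
  · rw [← mul_inv_eq_iff_eq_mul, (h.act' hd h1 h.z_mem).resolve_right fun e => e.2 (by simp [h.zz]),
      h.z_inv]

theorem conj_mem (hd : d ∈ D) (hu : u ∈ 𝐙 x) : d * u * d⁻¹ ∈ 𝐙 x := by
  by_cases h1 : d ∈ 𝐙 x
  · exact mul_mem (mul_mem h1 hu) (inv_mem h1)
  · rcases h.act' hd h1 hu with e | ⟨e, -⟩ <;> rw [e]
    exacts [inv_mem hu, mul_mem (inv_mem hu) h.z_mem]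

theorem conj_notMem (hd : d ∈ D) (hy' : y ∉ 𝐙 x) : d * y * d⁻¹ ∉ 𝐙 x := fun e =>
  hy' (by simpa [mul_assoc] using h.conj_mem (inv_mem hd) e)

theorem fix (hy : y ∈ D) (hy' : y ∉ 𝐙 x) (hu : u ∈ 𝐙 x) (e : y * u = u * y) : u = 1 ∨ u = z := by
  refine h.sq_cases hu ?_
  rcases h.act' hy hy' hu with h1 | ⟨h1, h2⟩ <;> rw [e, mul_inv_cancel_right] at h1
  · exact eq_inv_iff_mul_eq_one.1 h1
  · exact absurd (by rw [eq_inv_mul_iff_mul_eq.1 h1, h.zz]) h2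

theorem v_conj (hy : y ∈ D) (hy' : y ∉ 𝐙 x) : v * y * v⁻¹ = y * z := by
  have := h.conj_v (inv_mem hy) (mt (inv_mem_iff).1 hy')
  calc v * y * v⁻¹ = y * (y⁻¹ * v * y⁻¹⁻¹) * v⁻¹ := by group
    _ = _ := by rw [this, mul_assoc, ← mul_inv_rev, h.hz, h.z_inv]

theorem sq (hy : y ∈ D) (hy' : y ∉ 𝐙 x) : y * y = 1 ∨ y * y = z :=
  h.fix hy hy' (by simpa using h.idx _ (inv_mem hy) (mt (inv_mem_iff).1 hy') y hy hy') (by group)

theorem cent (hy : y ∈ D) (hy' : y ∉ 𝐙 x) :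
    d ∈ D ⊓ 𝐂 (𝐙 y) ↔ d = 1 ∨ d = z ∨ d = y ∨ d = y * z := by
  rw [centralizer_zpowers, mem_inf, mem_centralizer_singleton_iff]
  refine ⟨fun ⟨hd, e⟩ => ?_, ?_⟩
  · by_cases h1 : d ∈ 𝐙 x
    · have := h.fix hy hy' h1 e.symm; tauto
    rcases h.fix hy hy' (h.idx y hy hy' d hd h1) (by rw [mul_assoc, e]; group) with e | e
    · exact .inr (.inr (.inl (inv_mul_eq_one.1 e).symm))
    · exact .inr (.inr (.inr (inv_mul_eq_iff_eq_mul.1 e)))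
  · rintro (rfl | rfl | rfl | rfl)
    exacts [⟨one_mem _, by simp⟩, ⟨h.le h.z_mem, (h.comm_z hy).symm⟩, ⟨hy, rfl⟩,
      ⟨mul_mem hy (h.le h.z_mem), by rw [mul_assoc, h.comm_z hy]⟩]

omit h in
theorem mul_notMem (hy' : y ∉ 𝐙 x) (hu : u ∈ 𝐙 x) : y * u ∉ 𝐙 x := by
  rwa [mul_mem_cancel_right hu]

theorem card_cent (hy : y ∈ D) (hy' : y ∉ 𝐙 x) : Nat.card ↥(D ⊓ 𝐂 (𝐙 y)) = 4 := by
  classical
  have h1 := mul_notMem hy' h.z_mem
  have h2 {a b} (ha : a ∈ 𝐙 x) (hb : b ∉ 𝐙 x) : a ≠ b := fun e => hb (e ▸ ha)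
  have : ((D ⊓ 𝐂 (𝐙 y) : Subgroup G) : Set G) = ({1, z, y, y * z} : Finset G) := by
    ext d; rw [SetLike.mem_coe, h.cent hy hy']; simp
  rw [← SetLike.coe_sort_coe, this, Nat.card_coe_set_eq, Set.ncard_coe_finset,
    Finset.card_insert_of_notMem, Finset.card_insert_of_notMem, Finset.card_pair]
  · simpa using h.z_ne
  · simp [h2 h.z_mem hy', h2 h.z_mem h1]
  · simp [h.z_ne.symm, h2 (one_mem _) hy', h2 (one_mem _) h1]

theorem index : (𝐙 x).relIndex D = 2 := by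
  obtain ⟨y, hy, hy'⟩ := h.ex
  rw [relIndex, index_eq_two_iff_exists_notMem_and]
  refine ⟨⟨y⁻¹, inv_mem hy⟩, by simpa [mem_subgroupOf] using hy', fun b => ?_⟩
  simp only [mem_subgroupOf, coe_mul]
  refine or_iff_not_imp_right.2 fun hb => ?_
  simpa using h.idx _ (inv_mem b.2) (mt (inv_mem_iff).1 hb) _ (inv_mem hy) (mt (inv_mem_iff).1 hy')

theorem card : Nat.card D = 2 ^ (m + 3) := by
  rw [← Solv.card_mul_relIndex h.le, h.index, Nat.card_zpowers, h.ord, ← pow_succ]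

theorem pgroup : IsPGroup 2 D := IsPGroup.of_card h.card

theorem conj_sq (hy : y ∈ D) (hy' : y ∉ 𝐙 x) (hu : u ∈ 𝐙 x) : ∃ d ∈ D, d * y * d⁻¹ = y * (u * u) := by
  have h0 : u⁻¹ * y * u⁻¹⁻¹ = y * (y⁻¹ * u⁻¹ * y⁻¹⁻¹) * u := by group
  have h2 := mul_mem hu hu
  rcases h.act' (inv_mem hy) (mt (inv_mem_iff).1 hy') (inv_mem hu) with e | ⟨e, -⟩ <;> rw [e] at h0
  · exact ⟨_, h.le (inv_mem hu), by rw [h0]; group⟩
  · refine ⟨v * u⁻¹, h.le (mul_mem h.v_mem (inv_mem hu)), ?_⟩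
    have h1 : u⁻¹ * y * u⁻¹⁻¹ = y * (u * u) * z := by
      rw [h0, inv_inv, mul_assoc, mul_assoc, ← comm hu h.z_mem]; group
    calc _ = v * (u⁻¹ * y * u⁻¹⁻¹) * v⁻¹ := by group
      _ = _ := by
        rw [h1, h.v_conj (mul_mem (mul_mem hy (h.le h2)) (h.le h.z_mem))
          (mul_notMem (mul_notMem hy' h2) h.z_mem), mul_assoc, h.zz, mul_one]

theorem classes (hy : y ∈ D) (hy' : y ∉ 𝐙 x) (hr : r ∈ D) (hr' : r ∉ 𝐙 x) :
    (∃ d ∈ D, d * y * d⁻¹ = r) ∨ ∃ d ∈ D, d * (y * x) * d⁻¹ = r := by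
  obtain ⟨k, hk⟩ := mem_zpowers_iff.1 (h.idx y hy hy' r hr hr')
  rw [(eq_inv_mul_iff_mul_eq.1 hk).symm]
  rcases Int.even_or_odd' k with ⟨j, rfl | rfl⟩
  · exact .inl (by rw [two_mul, zpow_add]; exact h.conj_sq hy hy' (zpow_mem_zpowers x j))
  · obtain ⟨d, hd, e⟩ := h.conj_sq (mul_mem hy h.mem) (mul_notMem hy' (mem_zpowers x))
      (zpow_mem_zpowers x j)
    exact .inr ⟨d, hd, by rw [e]; group⟩

theorem mem_of_comm_v (hd : d ∈ D) (e : d * v = v * d) : d ∈ 𝐙 x := by_contra fun h1 => by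
  rcases h.fix hd h1 h.v_mem e with e | e
  · simpa [e] using h.ord_v
  · simpa [e, h.ord_z] using h.ord_v

theorem le_norm_v : D ≤ 𝐍 (𝐙 v) := fun d hd => mem_normalizer_fintype fun _ ⟨k, hk⟩ => by
  rw [← hk, ← conj_zpow]
  by_cases h1 : d ∈ 𝐙 x
  · rw [comm h1 h.v_mem, mul_inv_cancel_right]; exact zpow_mem_zpowers _ _
  · rw [h.conj_v hd h1]; exact zpow_mem (inv_mem (mem_zpowers v)) k

theorem le_cent_z : D ≤ 𝐂 (𝐙 z) := fun d hd => by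
  rw [centralizer_zpowers, mem_centralizer_singleton_iff]; exact h.comm_z hd

theorem norm_z : 𝐍 (𝐙 z) ≤ 𝐂 (𝐙 z) := fun g hg => by
  rw [centralizer_zpowers, mem_centralizer_singleton_iff]
  rcases h.mem_z.1 ((mem_normalizer_iff.1 hg z).1 (mem_zpowers z)) with e | e
  · exact absurd (by simpa using e) h.z_ne
  · exact mul_inv_eq_iff_eq_mul.1 e

theorem norm_v : 𝐍 (𝐙 v) ≤ D ⊔ 𝐂 (𝐙 v) := fun g hg => by
  obtain ⟨y, hy, hy'⟩ := h.ex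
  obtain ⟨k, hk⟩ := mem_zpowers_iff.1 ((mem_normalizer_iff.1 hg v).1 (mem_zpowers v))
  have h4 : v ^ (4 : ℤ) = 1 := by rw [← orderOf_dvd_iff_zpow_eq_one, h.ord_v]; rfl
  have h5 : ¬ (g * v * g⁻¹) ^ (2 : ℤ) = 1 := by
    rw [← orderOf_dvd_iff_zpow_eq_one, orderOf_conj', h.ord_v]; decide
  have hC {a} (e : a * v * a⁻¹ = v) : a ∈ D ⊔ 𝐂 (𝐙 v) := mem_sup_right (by
    rw [centralizer_zpowers, mem_centralizer_singleton_iff]; exact mul_inv_eq_iff_eq_mul.1 e)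
  obtain ⟨j, rfl | rfl⟩ := Int.even_or_odd' k
  · exact absurd (by rw [← hk, ← zpow_mul, show 2 * j * 2 = 4 * j by ring, zpow_mul, h4, one_zpow]) h5
  obtain ⟨i, rfl | rfl⟩ := Int.even_or_odd' j
  · exact hC (by rw [← hk, show 2 * (2 * i) + 1 = 4 * i + 1 by ring, zpow_add, zpow_mul, h4]; simp)
  · have h6 : g * v * g⁻¹ = v⁻¹ := by
      rw [← hk, show 2 * (2 * i + 1) + 1 = 4 * (i + 1) + -1 by ring, zpow_add, zpow_mul, h4]; simp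
    have := mul_mem (mem_sup_left (inv_mem hy)) (hC (a := y * g) (by
      rw [mul_inv_rev, show y * g * v * (g⁻¹ * y⁻¹) = y * (g * v * g⁻¹) * y⁻¹ by group, h6, ← conj_inv,
        h.conj_v hy hy', inv_inv]))
    simpa using this

theorem comap {H : Type*} [Group H] [Finite H] {f : H →* G} (hf : Function.Injective f)
    {D' : Subgroup H} (hD : D'.map f = D) {x' v' z' : H} (hx : f x' = x) (hv : f v' = v)
    (hz : f z' = z) : MC D' x' v' z' m := by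
  subst hD hx hv hz
  have h1 {a} : f a ∈ 𝐙 (f x') ↔ a ∈ 𝐙 x' := by rw [← MonoidHom.map_zpowers, mem_map_iff_mem hf]
  refine ⟨by rw [← h.ord, orderOf_injective f hf], hf (by rw [map_pow, h.hv]),
    hf (by rw [map_mul, h.hz]), (mem_map_iff_mem hf).1 h.mem, ?_, fun a ha ha' b hb hb' => ?_,
    fun a ha ha' => ?_⟩
  · obtain ⟨_, ⟨a, ha, rfl⟩, h2⟩ := h.ex
    exact ⟨a, ha, mt h1.2 h2⟩
  · rw [← h1, map_mul, map_inv]
    exact h.idx _ (mem_map_of_mem f ha) (mt h1.1 ha') _ (mem_map_of_mem f hb) (mt h1.1 hb')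
  · simpa only [← hf.eq_iff, map_mul, map_inv] using h.act _ (mem_map_of_mem f ha) (mt h1.1 ha')

theorem res {K : Subgroup G} (hK : D ≤ K) : MC (D.subgroupOf K) ⟨x, hK h.mem⟩ ⟨v, hK (h.le h.v_mem)⟩
    ⟨z, hK (h.le h.z_mem)⟩ m :=
  h.comap K.subtype_injective (map_subgroupOf_eq_of_le hK) rfl rfl rfl

theorem top : MC (⊤ : Subgroup D) ⟨x, h.mem⟩ ⟨v, h.le h.v_mem⟩ ⟨z, h.le h.z_mem⟩ m :=
  h.comap D.subtype_injective (by rw [← MonoidHom.range_eq_map, range_subtype]) rfl rfl rfl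

variable {H : Type*} [Group H] [Finite H] {f : G →* H}

theorem map_mem (hf : f.ker = 𝐙 z) : f y ∈ 𝐙 (f x) ↔ y ∈ 𝐙 x := by
  rw [← MonoidHom.map_zpowers, ← mem_comap, comap_map_eq, hf, sup_eq_left.2 (zpowers_le.2 h.z_mem)]

theorem map_sq (hf : f.ker = 𝐙 z) {a : H} (ha : a ∈ D.map f) (ha' : a ∉ 𝐙 (f x)) : a * a = 1 := by
  obtain ⟨y, hy, rfl⟩ := ha
  rw [← map_mul, ← MonoidHom.mem_ker, hf, h.mem_z]
  exact h.sq hy (mt (h.map_mem hf).2 ha')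

theorem map_v_ne (hf : f.ker = 𝐙 z) : f v ≠ 1 := by
  rw [Ne, ← MonoidHom.mem_ker, hf, h.mem_z]
  rintro (e | e)
  · simpa [e] using h.ord_v
  · simpa [e, h.ord_z] using h.ord_v

omit h in
theorem map (h : MC D x v z (m + 1)) (hf : f.ker = 𝐙 z) :
    MC (D.map f) (f x) (f (x ^ 2 ^ m)) (f v) m := by
  have hz : f z = 1 := by rw [← MonoidHom.mem_ker, hf]; exact mem_zpowers z
  refine ⟨orderOf_eq_prime_pow (by rw [← map_pow, h.hv]; exact h.map_v_ne hf) (by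
    rw [pow_succ, pow_mul, ← map_pow, h.hv, pow_two, ← map_mul, h.hz, hz]), (map_pow _ _ _).symm, by
    rw [← map_mul, ← pow_add, ← two_mul, ← pow_succ', h.hv], mem_map_of_mem f h.mem, ?_, ?_, ?_⟩
  · obtain ⟨y, hy, hy'⟩ := h.ex
    exact ⟨_, mem_map_of_mem f hy, mt (h.map_mem hf).1 hy'⟩
  · rintro _ ⟨a, ha, rfl⟩ ha' _ ⟨b, hb, rfl⟩ hb'
    rw [← map_inv, ← map_mul, h.map_mem hf]
    exact h.idx a ha (mt (h.map_mem hf).2 ha') b hb (mt (h.map_mem hf).2 hb')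
  · rintro _ ⟨a, ha, rfl⟩ ha'
    left
    rw [← map_inv, ← map_mul, ← map_mul]
    rcases h.act a ha (mt (h.map_mem hf).2 ha') with e | ⟨-, e⟩ <;> simp [e, hz]

omit h in
theorem map_zero (h : MC D x v z 0) (hf : f.ker = 𝐙 z) {a : H} (ha : a ∈ D.map f) : a * a = 1 := by
  by_cases h1 : a ∈ 𝐙 (f x)
  · obtain ⟨k, rfl⟩ := h1
    have hz : f z = 1 := by rw [← MonoidHom.mem_ker, hf]; exact mem_zpowers z
    have : f x * f x = 1 := by rw [← map_mul, show x = v by simpa using h.hv, h.hz, hz]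
    simp only
    rw [← (Commute.refl _).mul_zpow, this, one_zpow]
  · exact h.map_sq hf ha h1

end MC

theorem mc_of {t : G} (hx : orderOf x = 2 ^ (m + 2)) (ht : t ∉ 𝐙 x)
    (hD : ∀ d, d ∈ D ↔ ∃ k : ℤ, d = x ^ k ∨ d = t * x ^ k)
    (h : t * x * t⁻¹ = x⁻¹ ∨ (m ≠ 0 ∧ t * x * t⁻¹ = x⁻¹ * x ^ 2 ^ (m + 1))) :
    MC D x (x ^ 2 ^ m) (x ^ 2 ^ (m + 1)) m ∧ t ∈ D ∧ ∀ y ∈ D, y ∉ 𝐙 x → ∃ k : ℤ, y = t * x ^ k := by
  have h1 : ∀ y ∈ D, y ∉ 𝐙 x → ∃ k : ℤ, y = t * x ^ k := fun y hy hy' => by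
    obtain ⟨k, rfl | e⟩ := (hD y).1 hy
    exacts [absurd (zpow_mem_zpowers _ _) hy', ⟨k, e⟩]
  have h2 : t ∈ D := (hD t).2 ⟨0, by simp⟩
  refine ⟨⟨hx, rfl, by rw [← pow_add, ← two_mul, ← pow_succ'], (hD x).2 ⟨1, by simp⟩, ⟨t, h2, ht⟩,
    fun a ha ha' b hb hb' => ?_, fun a ha ha' => ?_⟩, h2, h1⟩
  · obtain ⟨k, rfl⟩ := h1 a ha ha'
    obtain ⟨l, rfl⟩ := h1 b hb hb'
    exact ⟨-k + l, by group⟩
  · obtain ⟨k, rfl⟩ := h1 a ha ha'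
    rwa [show t * x ^ k * x * (t * x ^ k)⁻¹ = t * x * t⁻¹ by group]

theorem mc_dihedral (e : D ≃* DihedralGroup (2 ^ (m + 2))) :
    ∃ x v z, MC D x v z m ∧ ∀ y ∈ D, y ∉ 𝐙 x → y * y = 1 := by
  obtain ⟨t, x, h1, h2, h3, h4, h5⟩ := Invol.exists_of_equiv_dihedral e
  obtain ⟨h6, -, h7⟩ := mc_of h3 h4 h5 (.inl h2)
  refine ⟨x, _, _, h6, fun y hy hy' => ?_⟩
  obtain ⟨k, rfl⟩ := h7 y hy hy'
  calc _ = (t * x * t⁻¹) ^ k * (t * t) * x ^ k := by rw [conj_zpow]; group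
    _ = _ := by rw [h1, h2]; group

theorem mc_quaternion (e : D ≃* QuaternionGroup (2 ^ (m + 1))) :
    ∃ x v z, MC D x v z m ∧ ∀ y ∈ D, y ∉ 𝐙 x → y * y = z := by
  obtain ⟨t, x, h1, h2, h3, h4, h5⟩ := Invol.exists_of_equiv_quaternion e
  obtain ⟨h6, -, h7⟩ := mc_of (by rw [h3, ← pow_succ']) h4 h5 (.inl h2)
  refine ⟨x, _, _, h6, fun y hy hy' => ?_⟩
  obtain ⟨k, rfl⟩ := h7 y hy hy'
  calc _ = (t * x * t⁻¹) ^ k * (t * t) * x ^ k := by rw [conj_zpow]; group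
    _ = _ := by rw [h1, h2]; group

theorem mc_qd (h : IsQuasiDihedral D) : ∃ x v z m, MC D x v z m ∧ ∃ y ∈ D, y ∉ 𝐙 x ∧ y * y = 1 ∧
    y * x * (y * x) ≠ 1 := by
  obtain ⟨n, hn, hc, x, y, hx, hy, rel⟩ := h
  obtain ⟨n, rfl⟩ := Nat.exists_eq_add_of_le' hn
  have rel' : (y : G) * x * (y : G)⁻¹ = (x : G)⁻¹ * x ^ 2 ^ (n + 2) := by
    have := congrArg Subtype.val rel
    simp only [coe_mul, coe_inv, SubgroupClass.coe_pow] at this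
    rw [this, eq_inv_mul_iff_mul_eq, ← pow_succ', Nat.sub_add_cancel Nat.one_le_two_pow]; rfl
  rw [← orderOf_coe] at hx hy
  have h1 : (y : G) * x * (y * x) = x ^ 2 ^ (n + 2) := by
    calc _ = (y : G) * x * (y : G)⁻¹ * (y * y) * x := by group
      _ = _ := by rw [rel', Invol.mul_self_of hy]; group
  have h2 : (x : G) ^ 2 ^ (n + 2) ≠ 1 := by
    rw [Ne, ← orderOf_dvd_iff_pow_eq_one, hx, Nat.pow_dvd_pow_iff_le_right one_lt_two]; omega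
  have nmem : (y : G) ∉ 𝐙 (x : G) := fun h3 => by
    have h4 : (y : G) * x * (y * x) = x ^ 2 ^ 1 := by
      rw [mul_assoc, ← mul_assoc x.1, ← MC.comm h3 (mem_zpowers _), ← mul_assoc, ← mul_assoc,
        Invol.mul_self_of hy]; simp [pow_two]
    rw [h1, pow_inj_mod, hx, Nat.mod_eq_of_lt (Nat.pow_lt_pow_right one_lt_two (by omega)),
      Nat.mod_eq_of_lt (Nat.pow_lt_pow_right one_lt_two (by omega)), Nat.pow_right_inj one_lt_two] at h4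
    omega
  exact ⟨_, _, _, n + 1, (mc_of hx nmem (Invol.mem_iff_of_card (by rw [hc, hx, pow_succ']) x.2 y.2 nmem)
    (.inr ⟨by simp, rel'⟩)).1, y, y.2, nmem, Invol.mul_self_of hy, h1 ▸ h2⟩

end Cfsg.Agent.Tame
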