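import Cfsg.Agent.Block.TameGrp
import Cfsg.Agent.BMod.Loc
import Cfsg.Agent.BMod.KW
import Cfsg.Agent.CharDeep.TI

/-!
Local blocks `b_K` for `K = N(⟨w⟩)` stabilizing the subsection block of `w`; induction of class
functions supported on `{k | w ∈ ⟨k⟩}`.
-/

set_option autoImplicit false
set_option linter.unusedSectionVars false

namespace Cfsg.Agent.Tame

open MonoidAlgebra Transfer Block BMod Cfsg.Agent.Char CharDeep Module
open scoped ComplexConjugate

variable {p : ℕ} [hp : Fact p.Prime]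

section alg
variable {F : Type*} [Field F] [CharP F p] {G : Type*} [Group G] [Finite G]
  {K P E Q : Subgroup G} {e f : F[G]}

local notation "𝐂" Q:max => Subgroup.centralizer ((Q : Subgroup G) : Set G)
local notation "𝐍" Q:max => Subgroup.normalizer ((Q : Subgroup G) : Set G)

theorem nil_of_isDef (hD : IsDef p K f E)
    (h : ∀ R ≤ E, ∀ g ∈ K, g ∈ 𝐍 R → ¬ p ∣ orderOf g → g ∈ 𝐂 R) : Nil p K f :=
  fun R g hR hR' hg hgb x hx hxN _ ho => by
    obtain ⟨k, hk, h1⟩ := hD.inI R hR hR' fun e => hg.ne_zero (by rw [← hgb, e, mul_zero])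
    have := h _ h1 (k * x * k⁻¹) (mul_mem (mul_mem hk hx) (inv_mem hk))
      (by rw [normalizer_sc, conj_mem_sc]; exact hxN) (by rwa [orderOf_conj'])
    rwa [centralizer_sc, conj_mem_sc] at this

theorem ple_inc {α β : Subgroup K × F[K]} (h : PLE p α β) (hC : 𝐂 (α.1.map K.subtype) ≤ K) :
    PLE p (α.1.map K.subtype, inc K α.2) (β.1.map K.subtype, inc K β.2) := by
  have key {A : Subgroup K} {a : F[K]} (ha : IsPair p A a) (hA : α.1 ≤ A) :
      IsPair p (A.map K.subtype) (inc K a) := ⟨ha.1.map _, by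
    rw [← inf_eq_right.2 ((centralizer_anti (Subgroup.map_mono hA)).trans hC),
      ← map_subtype_centralizer]
    exact isPrim_inc_map_iff.2 ha.2⟩
  induction h with
  | refl => exact PLE.refl _
  | tail h1 h2 ih =>
    refine ih.trans (NSub.ple ⟨key h2.left (PLE.le h1), key h2.right ((PLE.le h1).trans h2.le),
      Subgroup.map_mono h2.le, ?_, inc_mem_fix_map.2 h2.fix, ?_⟩)
    · rintro _ ⟨k, hk, rfl⟩
      exact (mem_normalizer_map_subtype K _ k).2 (h2.norm hk)
    · simp only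
      rw [br_inc, ← map_mul, h2.mul_br]

theorem inc_fq' (he : IsPair p P e) (hP : P ≤ K) (hC : 𝐂 P ≤ K) {R : Subgroup K}
    (hR : R ≤ P.subgroupOf K) (hC' : 𝐂 (R.map K.subtype) ≤ K) :
    inc K (fq p (P.subgroupOf K) (resA K e) R) = fq p P e (R.map K.subtype) := by
  have := ple_inc (fq_ple (isPair_res he hP hC) hR) hC'
  simp only at this
  rw [Subgroup.map_subgroupOf_eq_of_le hP, inc_resA_of_mem (supp_mono hC he.supp)] at this
  exact (fq_eq this).symm

end alg

variable {M : Ideal AlgInt} [PMod p M] {G : Type*} [Group G] [Fintype G]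
variable {A B : Set (IrrCharacter G)} {K P Q : Subgroup G} {e : (F M)[G]} {u w z g : G}
  {θ φ t : G → ℂ} {χ ψ : IrrCharacter G}

local notation "𝐂" Q:max => Subgroup.centralizer ((Q : Subgroup G) : Set G)
local notation "𝐍" Q:max => Subgroup.normalizer ((Q : Subgroup G) : Set G)
local notation "𝐙" => Subgroup.zpowers

theorem indFun_pu' [Fintype K] (he : IsPair p P e) (hP : P ≤ K) (hC : 𝐂 P ≤ K) {r : K}
    (hr : (r : G) ∈ P) (h : 𝐂 (𝐙 (r : G)) ≤ K) (hθ : IsClassFunction G θ) :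
    indFun K (pu p (P.subgroupOf K) (resA K e) r fun k => θ k) = pu p P e r θ := by
  have he' := isPair_res he hP hC
  have h0 : (𝐙 r).map K.subtype = 𝐙 (r : G) := MonoidHom.map_zpowers _ _
  refine (isSub_zu he hr).indFun_pj (isSub_zu he' hr) h rfl ?_ hθ
  refine Zc_idem_eq_of_redA_eq (M := M) ?_ (idemS_mem_Zc _ _) ((idemS_idem _ _).map _)
    (idemS_idem _ _) (inc_mem_OG_iff.2 (idemS_mem_OG (isPBlock_bu he' hr)))
    (idemS_mem_OG (isPBlock_bu he hr)) ?_
  · rw [← inf_eq_right.2 h, ← h0, ← map_subtype_centralizer]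
    exact mem_Zc_map_iff.2 ⟨_, idemS_mem_Zc _ _, rfl⟩
  · rw [redA_inc, redA_idemS, redA_idemS, eS_bu he' hr, eS_bu he hr, fu, fu, ← h0]
    exact inc_fq' he hP hC (Subgroup.zpowers_le.2 hr) (h0 ▸ h)

theorem pu_eq_zero (he : IsPair p P e) (hu : u ∈ P) (h : ∀ g, IsPPart p g u → θ g = 0) :
    pu p P e u θ = 0 := by
  have := Fintype.ofFinite (𝐂 (𝐙 u))
  rw [pu_eq, pj, ← EE_rho, ← blockPart_rho (IsPBlock.isBlockUnion (isPBlock_bu he hu)),
    show rho p (sh (zu u) θ) = 0 from funext fun c => by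
      rw [rho_apply]
      split_ifs with hc
      exacts [rfl, h _ ((isSub_zu he hu).isPPart hc)], blockPart_zero, map_zero]

theorem pu_congr (he : IsPair p P e) (hu : u ∈ P) (h : ∀ g, IsPPart p g u → θ g = φ g) :
    pu p P e u θ = pu p P e u φ := by
  rw [← sub_eq_zero, ← map_sub]
  exact pu_eq_zero he hu fun g hg => sub_eq_zero.2 (h g hg)

theorem exists_of_pu_ne_zero (he : IsPair p P e) (hu : u ∈ P) (h : pu p P e u θ g ≠ 0) :
    ∃ k, IsPPart p g (k * u * k⁻¹) := by
  obtain ⟨x, hx⟩ := exists_isPPart p g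
  obtain ⟨k, rfl⟩ := isConj_iff.1 (not_not.1 (mt (pu_apply_of_not he hu θ hx) h)).symm
  exact ⟨k, hx⟩

theorem star_eq_zero (he : IsPair p P e) (h : ∀ u ∈ P, ∀ k, IsPPart p g (k * u * k⁻¹) → t u = 0) :
    BMod.star p P e t θ g = 0 := by
  rw [star_apply, Finset.sum_apply]
  refine Finset.sum_eq_zero fun r hr => ?_
  rw [Pi.smul_apply, smul_eq_mul, mul_eq_zero, or_iff_not_imp_right]
  exact fun h1 => (exists_of_pu_ne_zero he (mem_of_mem_tv hr) h1).elim (h r (mem_of_mem_tv hr))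

theorem apply_eq_zero (hB : IsPBlock M B) (hm : IsMax p (eB M B) P e) (hθ : blockPart B θ = θ)
    (h : ∀ u ∈ P, ∀ k, IsPPart p g (k * u * k⁻¹) → pu p P e u θ = 0) : θ g = 0 := by
  rw [eq_sum_pu hB hm hθ, Finset.sum_apply]
  refine Finset.sum_eq_zero fun r hr => by_contra fun h1 => ?_
  obtain ⟨k, hk⟩ := exists_of_pu_ne_zero hm.pair (mem_of_mem_tv hr) h1
  exact h1 (by rw [h r (mem_of_mem_tv hr) k hk]; rfl)

theorem star_central (hB : IsPBlock M B) (hm : IsMax p (eB M B) P e) (hz : z ∈ P)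
    (hc : z ∈ Subgroup.center G) (ht : Stable p P e t) (hθ : blockPart B θ = θ)
    (hg : IsPPart p g z) : BMod.star p P e t θ g = t z * θ g := by
  have h : ∀ v ∈ P, IsConj z v → Fz p P e z v := fun v _ hv => by
    obtain ⟨k, rfl⟩ := isConj_iff.1 hv
    rw [Subgroup.mem_center_iff.1 hc, mul_inv_cancel_right]; exact Fz.refl _
  rw [apply_eq_pu hB hm (blockPart_star hB hm t θ) hz h hg, apply_eq_pu hB hm hθ hz h hg,
    pu_star hm.pair hz ht (hθ ▸ isClassFunction_blockPart B θ)]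
  rfl

/-- support in `{k | w ∈ ⟨k⟩}` -/
def On (K : Subgroup G) (w : G) (f : K → ℂ) : Prop := ∀ k : K, w ∉ 𝐙 (k : G) → f k = 0

variable (p) in
structure Loc (B : Set (IrrCharacter G)) (P : Subgroup G) (e : (F M)[G]) (w : G) (K : Subgroup G) :
    Prop where
  blk : IsPBlock M B
  max : IsMax p (eB M B) P e
  mem : w ∈ P
  ne : w ≠ 1
  norm : 𝐍 (𝐙 w) ≤ K
  le : P ≤ K
  leNP : K ≤ NP (𝐙 w) (fu p P e w)

variable (p) in
/-- the local block -/
abbrev bK (P : Subgroup G) (e : (F M)[G]) (w : G) (K : Subgroup G) : Set (IrrCharacter K) :=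
  bl M K (fu p P e w)

namespace Loc

variable (h : Loc p B P e w K) {f f' : K → ℂ}
include h

theorem ple : PLE p (𝐙 w, fu p P e w) (P, e) := fu_ple h.max.pair h.mem
theorem pair : IsPair p (𝐙 w) (fu p P e w) := h.ple.left h.max.pair
theorem cent : 𝐂 (𝐙 w) ≤ K := (centralizer_le_normalizer' _).trans h.norm
theorem centP : 𝐂 P ≤ K := (centralizer_anti h.ple.le).trans h.cent
theorem prim : IsPrim (Zc (F M) K K) (fu p P e w) :=
  h.pair.isPrim_Zc_self (h.ple.le.trans h.le) h.cent h.leNP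
theorem isBlk : IsPBlock M (bK p P e w K) := (isPBlock_bl h.prim).1
theorem eS_eq : eS M K (bK p P e w K) = fu p P e w := (isPBlock_bl h.prim).2
theorem isDef : IsDef p K (fu p P e w) P := h.max.isDef_of_le h.ple h.cent h.leNP h.le

theorem ind : IsInducedBlock M K (bK p P e w K) B :=
  (BMod.isInducedBlock_iff_br h.pair.1 (h.ple.le.trans h.le) h.cent (h.leNP.trans NP_le_normalizer)).2
    ⟨h.isBlk, h.blk, by rw [h.eS_eq]; exact h.max.mul_br_of_ple h.ple⟩

theorem max' : IsMax p (eB M (bK p P e w K)) (P.subgroupOf K) (resA K e) :=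
  isMax_res h.max.pair h.centP (isPrim_eB h.isBlk) (by rw [← eS, h.eS_eq]; exact h.isDef) (by
    rw [← eS, h.eS_eq]
    exact (h.ple.nsub h.max.pair (h.le.trans (h.leNP.trans NP_le_normalizer))).mul_br)

theorem defect : blockDefect p (bK p P e w K) = blockDefect p B := by
  refine Nat.pow_right_injective hp.out.two_le ?_
  simp only
  rw [← IsDefectGroup.card_eq h.blk ((isDefectGroup_iff_isDef h.blk).2 h.max.isDef),
    ← IsDefectGroup.card_eq h.isBlk ((isDefectGroup_iff_isDef h.isBlk).2 h.max'.isDef)]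
  exact Nat.card_congr (Subgroup.subgroupOfEquivOfLe h.le).toEquiv

theorem mem_ppart {x : G} (hx : IsPPart p g x) : w ∈ 𝐙 g ↔ w ∈ 𝐙 x := by
  refine ⟨fun h1 => Gen2.mem_zpowers_of_orderOf_dvd h1 hx.mem_zpowers ?_,
    fun h1 => Subgroup.zpowers_le.2 hx.mem_zpowers h1⟩
  obtain ⟨k, hk⟩ := orderOf_eq_pow_of_mem h.max.pair.1 h.mem
  obtain ⟨y, rfl, h2, h3, h4⟩ := hx
  have := orderOf_dvd_of_mem_zpowers h1
  rw [h2.orderOf_mul_eq_mul_orderOf_of_coprime (coprime_orderOf_of_not_dvd h3 h4), hk] at this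
  exact hk ▸ (((Nat.Prime.coprime_iff_not_dvd hp.out).2 h4).pow_left k).dvd_of_dvd_mul_right this

theorem cent_le (hu : w ∈ 𝐙 u) : 𝐂 (𝐙 u) ≤ K :=
  (centralizer_anti (Subgroup.zpowers_le.2 hu)).trans h.cent

theorem ti (g : G) (hg : g ∉ K) (s : G) (hs : s ∈ {s | w ∈ 𝐙 s}) (hs' : g * s * g⁻¹ ∈ {s | w ∈ 𝐙 s}) :
    s = 1 := absurd (h.norm (mem_normalizer_of_conj hs hs')) hg

theorem one (hf : On K w f) : f 1 = 0 := hf 1 (by simpa using h.ne)

variable [Fintype K]

theorem inner (hf : On K w f) (hf' : On K w f') (hc : IsClassFunction K f') :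
    classInner (indFun K f) (indFun K f') = classInner f f' :=
  classInner_indFun_indFun_of_TI K _ h.ti hc hf hf' (h.one hf)

theorem ind_apply (hf : On K w f) (hc : IsClassFunction K f) {k : K} (hk : w ∈ 𝐙 (k : G)) :
    indFun K f k = f k :=
  indFun_eq_of_TI K _ h.ti hc hf k hk fun e => h.ne (by simpa [e] using hk)

omit h in
theorem ind_eq_zero (hf : On K w f) (hg : ∀ k, k * w * k⁻¹ ∉ 𝐙 g) : indFun K f g = 0 :=
  indFun_eq_zero_of_forall _ _ fun k _ => hf _ fun h1 => hg k⁻¹ (by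
    rwa [← sc_zpowers, mem_sc, ← inv_inv k, inv_inv k⁻¹] at h1)

theorem rho_ind (hf : On K w f) : rho p (indFun K f) = 0 := funext fun g => by
  rw [rho_apply]
  split_ifs with hg
  · rfl
  refine ind_eq_zero hf fun k hk => h.ne (eq_one_of_orderOf_pow_of_not_dvd
    (orderOf_eq_pow_of_mem h.max.pair.1 h.mem) fun h1 => hg (h1.trans ?_))
  exact orderOf_conj' k w ▸ orderOf_dvd_of_mem_zpowers hk

theorem ind_eq_zero_iff (hf : On K w f) (hc : IsClassFunction K f) : indFun K f = 0 ↔ f = 0 :=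
  ⟨fun e => funext fun k => by
    by_cases hk : w ∈ 𝐙 (k : G)
    · rw [← h.ind_apply hf hc hk, e]; rfl
    · exact hf k hk, fun e => by rw [e, indFun_zero]⟩

omit h in
theorem inner_ind (hb : blockPart (bK p P e w K) f = f) (hθ : IsClassFunction G θ) :
    classInner (indFun K f) θ = classInner f (blockPart (bK p P e w K) fun k : K => θ k) := by
  rw [classInner_indFun_left _ _ hθ, ← classInner_blockPart_comm, hb]

theorem blockPart_ind (hf : On K w f) (hb : blockPart (bK p P e w K) f = f) :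
    blockPart B (indFun K f) = indFun K f := by
  refine (blockPart_eq_self_iff (indFun_isClassFunction _ _)).2 fun χ hχ => ?_
  rw [inner_ind hb (irrC χ)]
  refine classInner_eq_zero_of_forall fun k => or_iff_not_imp_left.2 fun h1 => ?_
  obtain ⟨x, hx⟩ := exists_isPPart p (k : G)
  exact blockPart_res_eq_zero h.ind hx (centralizer_zpowers x ▸ h.cent_le
    ((h.mem_ppart hx).1 (not_not.1 (mt (hf k) h1)))) hχ

theorem ind_pu {r : K} (hr : (r : G) ∈ P) (hw : w ∈ 𝐙 (r : G)) (hθ : IsClassFunction G θ) :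
    indFun K (pu p (P.subgroupOf K) (resA K e) r (blockPart (bK p P e w K) fun k : K => θ k)) =
      pu p P e r θ := by
  rw [pu_blockPart h.isBlk h.max' hr (isClassFunction_res hθ K),
    indFun_pu' h.max.pair h.le h.centP hr (h.cent_le hw) hθ]

theorem pu_eq_zero (hu : u ∈ P) (hw : w ∈ 𝐙 u) (hθ : IsClassFunction G θ)
    (h0 : ∀ k : K, w ∈ 𝐙 (k : G) → blockPart (bK p P e w K) (fun k : K => θ k) k = 0) :
    pu p P e u θ = 0 := by
  rw [← h.ind_pu (r := ⟨u, h.le hu⟩) hu hw hθ, Tame.pu_eq_zero h.max'.pair hu fun k hk =>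
    h0 k ((h.mem_ppart (IsPPart.coe hk)).2 hw), indFun_zero]

end Loc

section dim

variable (p) in
/-- class functions of `A` vanishing on `p`-regular elements -/
noncomputable def Vs (A : Set (IrrCharacter G)) : Submodule ℂ (G → ℂ) :=
  LinearMap.range (bpL A) ⊓ LinearMap.ker (rho p)

theorem mem_range_bpL : θ ∈ LinearMap.range (bpL A) ↔ blockPart A θ = θ :=
  ⟨fun ⟨φ, h⟩ => h ▸ blockPart_blockPart_self A φ, fun h => ⟨θ, h⟩⟩

theorem mem_Vs : θ ∈ Vs p A ↔ blockPart A θ = θ ∧ rho p θ = 0 := by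
  rw [Vs, Submodule.mem_inf, mem_range_bpL, LinearMap.mem_ker]

theorem finrank_Vs (A : Set (IrrCharacter G)) : finrank ℂ (Vs p A) + blockRank p A = Nat.card A := by
  classical
  have h1 : LinearMap.range (bpL A) = Submodule.span ℂ (Set.range fun χ : A => (χ.1 : G → ℂ)) := by
    refine le_antisymm ?_ (Submodule.span_le.2 ?_)
    · rintro _ ⟨θ, rfl⟩
      rw [bpL_apply, blockPart_eq]
      refine Submodule.sum_mem _ fun χ _ => ?_
      split_ifs with h
      exacts [Submodule.smul_mem _ _ (Submodule.subset_span ⟨⟨χ, h⟩, rfl⟩), by simp]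
    · rintro _ ⟨χ, rfl⟩
      exact mem_range_bpL.2 (blockPart_irr_of_mem χ.2)
  have h2 := LinearMap.finrank_range_add_finrank_ker ((rho p).domRestrict (LinearMap.range (bpL A)))
  rw [LinearMap.range_domRestrict, ← LinearMap.range_comp, ← span_rho_eq_range,
    LinearMap.ker_domRestrict, ← Submodule.finrank_map_subtype_eq, Submodule.map_comap_subtype] at h2
  rw [add_comm, Nat.card_eq_fintype_card, ← finrank_span_eq_card (R := ℂ)
    (linearIndependent_irr.comp (fun χ : A => χ.1) Subtype.val_injective)]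
  exact h2.trans (by rw [h1]; rfl)

end dim

end Cfsg.Agent.Tame
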